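import Cfsg.Agent.DTR.Defs
import Cfsg.Agent.S0700
import Cfsg.Agent.H42.ZStar

set_option autoImplicit false
set_option linter.unusedSectionVars false

namespace Cfsg.Agent.DTR

open MulAction
open scoped commutatorElement

variable {A Δ : Type*} [Group A] [Finite A] [MulAction A Δ] [FaithfulSMul A Δ] [Finite Δ]
  {T : Subgroup A}

theorem Ctx.b1_ne (h : Ctx Δ T) : T ≠ ⊥ :=
  haveI := h.simple
  (Subgroup.nontrivial_iff_ne_bot T).1 inferInstance

theorem Ctx.b1_prim (h : Ctx Δ T) : IsPreprimitive T Δ := by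
  haveI := h.nrm
  haveI := h.simple
  refine ((S0700.aux h.two T h.b1_ne fun M hM le => ?_).resolve_left fun k => h.nab k.1).2
  rcases (hM.subgroupOf T).eq_bot_or_eq_top with e | e
  · left
    rwa [Subgroup.subgroupOf_eq_bot, disjoint_iff, inf_eq_left.2 le] at e
  · exact .inr (le_antisymm le (Subgroup.subgroupOf_eq_top.1 e))

theorem Ctx.b1_nt (h : Ctx Δ T) : Nontrivial Δ := by
  by_contra k
  rw [not_nontrivial_iff_subsingleton] at k
  exact h.b1_ne (eq_bot_iff.2 fun g _ => Subgroup.mem_bot.2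
    (FaithfulSMul.eq_of_smul_eq_smul (α := Δ) fun _ => Subsingleton.elim _ _))

theorem Ctx.trans (h : Ctx Δ T) (a c : Δ) : ∃ t ∈ T, t • a = c := by
  haveI := h.b1_prim
  obtain ⟨t, ht⟩ := exists_smul_eq T a c
  exact ⟨t, t.2, ht⟩

/-- the point stabiliser is maximal in `T` -/
theorem Ctx.max (h : Ctx Δ T) (b : Δ) {X : Subgroup A} (hX : X ≤ T)
    (hb : T ⊓ stabilizer A b ≤ X) : X = T ⊓ stabilizer A b ∨ X = T := by
  haveI := h.b1_prim
  haveI := h.b1_nt
  have c := IsPreprimitive.isCoatom_stabilizer_of_isPreprimitive T b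
  rcases (show stabilizer T b ≤ X.subgroupOf T from fun t ht => hb ⟨t.2, ht⟩).eq_or_lt with e | e
  · exact .inl (le_antisymm (fun x hx => ⟨hX hx, (e.ge (show (⟨x, hX hx⟩ : T) ∈ X.subgroupOf T from hx) :)⟩) hb)
  · exact .inr (le_antisymm hX (Subgroup.subgroupOf_eq_top.1 (c.2 _ e)))

theorem Ctx.cen_one (h : Ctx Δ T) {x : A} (hx : x ∈ T) (hc : ∀ t ∈ T, t * x = x * t) :
    x = 1 := by
  haveI := h.simple
  rcases (inferInstance : (Subgroup.center T).Normal).eq_bot_or_eq_top with e | e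
  · have : (⟨x, hx⟩ : T) ∈ Subgroup.center T := Subgroup.mem_center_iff.2 fun t => Subtype.ext (hc t t.2)
    rw [e] at this
    exact congrArg Subtype.val (Subgroup.mem_bot.1 this)
  · exact absurd ⟨⟨fun a b => Subgroup.mem_center_iff.1 (e.ge (Subgroup.mem_top b)) a⟩⟩ h.nab

theorem Ctx.cent (h : Ctx Δ T) {b : Δ} {x : A} (hx : Cen T b x) (h1 : x ≠ 1) {t : A}
    (ht : t ∈ T) (hc : t * x = x * t) : t • b = b := by
  rcases h.max b (X := T ⊓ Subgroup.centralizer {x}) inf_le_left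
    (fun s hs => ⟨hs.1, Subgroup.mem_centralizer_singleton_iff.2 (hx.2.2 s hs.1 hs.2)⟩) with e | e
  · exact (e.le ⟨ht, Subgroup.mem_centralizer_singleton_iff.2 hc⟩).2
  · exact absurd (h.cen_one hx.1 fun s hs => Subgroup.mem_centralizer_singleton_iff.1 (e.ge hs).2) h1

theorem Ctx.fix (h : Ctx Δ T) {b c : Δ} {x : A} (hx : Cen T b x) (h1 : x ≠ 1)
    (hc : x • c = c) : c = b := by
  by_contra ne
  obtain ⟨t, -, rfl⟩ := h.trans b c
  have hy := hx.conj h.nrm t
  suffices key : t * x * t⁻¹ = 1 from h1 (by simpa using key)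
  refine FaithfulSMul.eq_of_smul_eq_smul (α := Δ) fun d => ?_
  rw [one_smul]
  by_cases e : d = t • b
  · exact e ▸ hy.2.1
  obtain ⟨a, a1, a2⟩ := h.two' ne (Ne.symm e)
  have hy' := hy.conj h.nrm a⁻¹
  rw [show a⁻¹ • t • b = t • b from inv_smul_eq_iff.2 a1.symm, inv_inv] at hy'
  have := h.cent hx h1 hy'.1 (hy'.2.2 x hx.1 hc).symm
  rwa [mul_smul, mul_smul, a2, inv_smul_eq_iff, a2] at this

theorem Ctx.ne_two (h : Ctx Δ T) {b : Δ} {x : A} (hx : Cen T b x) : orderOf x ≠ 2 := by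
  intro h2
  haveI := h.simple
  have h1 : x ≠ 1 := fun e => by simp [e] at h2
  have o : orderOf (⟨x, hx.1⟩ : T) = 2 := by rw [← h2, ← Subgroup.orderOf_coe]
  obtain ⟨N, hN, odd, k⟩ := H42.zstar (z := (⟨x, hx.1⟩ : T)) ⟨o, fun t hc => by
    have hy := hx.conj h.nrm (t : A)
    have hc' : x * (t * x * (t : A)⁻¹) = (t * x * (t : A)⁻¹) * x := congrArg Subtype.val hc
    have e := h.fix hy (fun e => h1 (by simpa using e)) (h.cent hx h1 hy.1 hc'.symm)
    exact Subtype.ext (mul_inv_eq_iff_eq_mul.2 (hx.2.2 t t.2 e.symm))⟩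
  rcases hN.eq_bot_or_eq_top with e | e
  · refine h1 (h.cen_one hx.1 fun t ht => ?_)
    have k' := k ⟨t, ht⟩
    rw [e, Subgroup.mem_bot] at k'
    have : x * t * x⁻¹ * t⁻¹ = 1 := congrArg Subtype.val k'
    rw [mul_inv_eq_one, mul_inv_eq_iff_eq_mul] at this
    exact this.symm
  · have := N.orderOf_dvd_natCard (e.ge (Subgroup.mem_top (⟨x, hx.1⟩ : T)))
    rw [o] at this
    exact Nat.not_even_iff_odd.2 odd (even_iff_two_dvd.2 this)

end Cfsg.Agent.DTR
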