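import Cfsg.Agent.DTR.Frob
import Cfsg.Agent.H2.FpfCyclic

set_option autoImplicit false
set_option linter.unusedSectionVars false

namespace Cfsg.Agent.DTR

open MulAction
open scoped commutatorElement

variable {A Δ : Type*} [Group A] [Finite A] [MulAction A Δ] [FaithfulSMul A Δ] [Finite Δ]
  {T : Subgroup A}

theorem Ctx.cyc (h : Ctx Δ T) (b : Δ) : IsCyclic (Zc T b) := by
  classical
  by_cases h0 : ∀ x, Cen T b x → x = 1
  · haveI : Subsingleton (Zc T b) := ⟨fun x y => Subtype.ext ((h0 _ x.2).trans (h0 _ y.2).symm)⟩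
    exact isCyclic_of_subsingleton
  push Not at h0
  obtain ⟨x, hx, h1⟩ := h0
  obtain ⟨c, hc⟩ : ∃ c : Δ, x • c ≠ c := by
    by_contra hn
    push Not at hn
    exact h1 (FaithfulSMul.eq_of_smul_eq_smul (α := Δ) fun c => by rw [hn, one_smul])
  have hbc : b ≠ c := fun e => hc (e ▸ hx.2.1)
  obtain ⟨q, K, -, hK, htr, -⟩ := h.frob hbc hx h1
  set N := Subgroup.normalizer (J T b c : Set A) with hN
  let S : SubMulAction N Δ := ⟨F T b c, fun g _ hd => Frob.smul_mem g.2 hd⟩
  haveI : Finite S := Subtype.finite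
  let φ : N →* Equiv.Perm S := MulAction.toPermHom N S
  have hφ : ∀ (g : N) (d : S), ((φ g d : S) : Δ) = (g : A) • (d : Δ) := fun g d => rfl
  let b' : S := ⟨b, Frob.b_mem b c⟩
  let c' : S := ⟨c, Frob.c_mem b c⟩
  have hZ : Zc T b ≤ N := fun z hz => Frob.cen_mem_norm hz
  let f : Zc T b →* Equiv.Perm S := φ.comp (Subgroup.inclusion hZ)
  have hf : ∀ (z : Zc T b) (d : S), ((f z d : S) : Δ) = (z : A) • (d : Δ) := fun g d => rfl
  have inj : Function.Injective f := by
    rw [injective_iff_map_eq_one]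
    intro z hz
    by_contra hne
    have e := hf z c'
    rw [hz] at e
    exact hbc (h.fix z.2 (fun e' => hne (Subtype.ext e')) e.symm).symm
  have hcyc : IsCyclic f.range := by
    refine H2.isCyclic_of_fpf_of_comm (K := (K.subgroupOf N).map φ) ?_ ?_ ?_ ?_
    · refine ⟨⟨?_⟩⟩
      rintro ⟨_, z, rfl⟩ ⟨_, w, rfl⟩
      apply Subtype.ext
      change f z * f w = f w * f z
      rw [← map_mul, ← map_mul]
      congr 1
      exact Subtype.ext (w.2.2.2 z z.2.1 z.2.2.1)
    · intro e
      obtain ⟨k, hk, hkb⟩ := htr c (Frob.c_mem b c)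
      have hkN : k ∈ N := ((hK k).1 hk).2.1
      have m : φ ⟨k, hkN⟩ ∈ (K.subgroupOf N).map φ := ⟨⟨k, hkN⟩, hk, rfl⟩
      rw [e, Subgroup.mem_bot] at m
      have e2 := hφ ⟨k, hkN⟩ b'
      rw [m] at e2
      exact hbc (e2.trans hkb)
    · rintro _ ⟨z, rfl⟩
      refine Subgroup.mem_normalizer_fintype ?_
      rintro _ ⟨k, hk, rfl⟩
      have hk' := (hK k).1 hk
      refine ⟨Subgroup.inclusion hZ z * k * (Subgroup.inclusion hZ z)⁻¹, ?_, by rw [map_mul, map_mul, map_inv]; rfl⟩
      change (z : A) * k * (z : A)⁻¹ ∈ K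
      have hzN : (z : A) ∈ N := hZ z.2
      refine (hK _).2 ⟨h.nrm.conj_mem _ hk'.1 _, mul_mem (mul_mem hzN k.2) (inv_mem hzN), ?_⟩
      rcases hk'.2.2 with hj | hj
      · exact Or.inl ((Subgroup.mem_normalizer_iff.1 hzN _).1 hj)
      · refine Or.inr fun d hd e => hj _ (Frob.smul_mem (inv_mem hzN) hd) ?_
        rw [mul_smul, mul_smul] at e
        rw [eq_inv_smul_iff, e]
    · rintro _ ⟨z, rfl⟩ hz
      rw [eq_bot_iff]
      rintro _ ⟨⟨k, hk, rfl⟩, hcm⟩
      have hk' := (hK k).1 hk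
      have hz1 : (z : A) ≠ 1 := fun e => hz (by rw [show z = 1 from Subtype.ext e, map_one])
      have e : f z * φ k = φ k * f z := Subgroup.mem_centralizer_iff.1 hcm _ rfl
      have e1 : (z : A) • (k : A) • b = (k : A) • (z : A) • b :=
        congrArg (fun s : Equiv.Perm S => ((s b' : S) : Δ)) e
      rw [z.2.2.1] at e1
      have e2 := h.fix z.2 hz1 e1
      have hj : (k : A) ∈ J T b c := hk'.2.2.resolve_right fun hn => hn b (Frob.b_mem b c) e2
      rw [Subgroup.mem_bot]
      ext d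
      rw [hφ]
      exact d.2 _ hj
  exact isCyclic_of_surjective (MonoidHom.ofInjective inj).symm (MonoidHom.ofInjective inj).symm.surjective

theorem Ctx.cyc' (h : Ctx Δ T) {b : Δ} {x y : A} (hx : Cen T b x) (hy : Cen T b y)
    (ho : orderOf y = orderOf x) : Subgroup.zpowers y = Subgroup.zpowers x := by
  classical
  haveI := h.cyc b
  haveI : Fintype (Zc T b) := Fintype.ofFinite _
  let x' : Zc T b := ⟨x, hx⟩
  let y' : Zc T b := ⟨y, hy⟩
  have hx' : orderOf x' = orderOf x := (Subgroup.orderOf_coe x').symm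
  have hle := IsCyclic.card_pow_eq_one_le (α := Zc T b) (orderOf_pos x)
  have hsub : (Subgroup.zpowers x' : Set (Zc T b)).toFinset ⊆
      Finset.univ.filter fun a : Zc T b => a ^ orderOf x = 1 := by
    intro a ha
    rw [Set.mem_toFinset] at ha
    obtain ⟨n, rfl⟩ := ha
    simp only [Finset.mem_filter, Finset.mem_univ, true_and]
    rw [← zpow_natCast, ← zpow_mul, mul_comm, zpow_mul, zpow_natCast, ← hx', pow_orderOf_eq_one, one_zpow]
  have hc : (Subgroup.zpowers x' : Set (Zc T b)).toFinset.card = orderOf x := by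
    rw [Set.toFinset_card, ← Nat.card_eq_fintype_card, ← hx']
    exact Nat.card_zpowers x'
  have heq := Finset.eq_of_subset_of_card_le hsub (by rw [hc]; exact hle)
  have hm : y' ∈ (Subgroup.zpowers x' : Set (Zc T b)).toFinset := by
    rw [heq]
    simp only [Finset.mem_filter, Finset.mem_univ, true_and]
    apply Subtype.ext
    change y ^ orderOf x = 1
    rw [← ho, pow_orderOf_eq_one]
  rw [Set.mem_toFinset] at hm
  obtain ⟨n, hn⟩ := hm
  have hyx : y ∈ Subgroup.zpowers x := ⟨n, congrArg Subtype.val hn⟩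
  refine Subgroup.eq_of_le_of_card_ge (Subgroup.zpowers_le.2 hyx) ?_
  rw [Nat.card_zpowers, Nat.card_zpowers, ho]

end Cfsg.Agent.DTR
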