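import Mathlib

/-! Project DTR (reduction for S3617): definitions and trivial API. -/

set_option autoImplicit false
set_option linter.unusedSectionVars false

namespace Cfsg.Agent.DTR

open MulAction

section B

variable {A : Type*} (Δ : Type*) [Group A] [MulAction A Δ]

/-- `A` is doubly transitive on `Δ` and `T` is a non-abelian simple normal subgroup. -/
structure Ctx (T : Subgroup A) : Prop where
  two : IsMultiplyPretransitive A Δ 2
  nrm : T.Normal
  simple : IsSimpleGroup T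
  nab : ¬ IsMulCommutative T

variable {Δ}

/-- `x` lies in the centre of the stabiliser of `b` in `T`. -/
def Cen (T : Subgroup A) (b : Δ) (x : A) : Prop :=
  x ∈ T ∧ x • b = b ∧ ∀ t ∈ T, t • b = b → t * x = x * t

/-- The stabiliser of the two points `b, c` in `T`. -/
def J (T : Subgroup A) (b c : Δ) : Subgroup A := T ⊓ stabilizer A b ⊓ stabilizer A c

/-- The fixed points of `J T b c`. -/
def F (T : Subgroup A) (b c : Δ) : Set Δ := {d | ∀ j ∈ J T b c, j • d = d}

theorem mem_J {T : Subgroup A} {b c : Δ} {g : A} :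
    g ∈ J T b c ↔ g ∈ T ∧ g • b = b ∧ g • c = c := by
  simp [J, and_assoc]

theorem Ctx.two' {T : Subgroup A} (h : Ctx Δ T) {a b c d : Δ} (hab : a ≠ b) (hcd : c ≠ d) :
    ∃ g : A, g • a = c ∧ g • b = d :=
  is_two_pretransitive_iff.1 h.two hab hcd

theorem Cen.conj {T : Subgroup A} (hT : T.Normal) {b : Δ} {x : A} (hx : Cen T b x) (a : A) :
    Cen T (a • b) (a * x * a⁻¹) := by
  refine ⟨hT.conj_mem _ hx.1 a, by rw [mul_smul, inv_smul_smul, mul_smul, hx.2.1], fun t ht hb => ?_⟩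
  have h1 := hx.2.2 (a⁻¹ * t * a⁻¹⁻¹) (hT.conj_mem _ ht _)
    (by rw [inv_inv, mul_smul, mul_smul, hb, inv_smul_smul])
  rw [inv_inv] at h1
  calc t * (a * x * a⁻¹) = a * (a⁻¹ * t * a * x) * a⁻¹ := by group
    _ = a * x * a⁻¹ * t := by rw [h1]; group

theorem Cen.one (T : Subgroup A) (b : Δ) : Cen T b (1 : A) :=
  ⟨one_mem _, one_smul _ _, fun t _ _ => by rw [mul_one, one_mul]⟩

theorem Cen.mul {T : Subgroup A} {b : Δ} {x y : A} (hx : Cen T b x) (hy : Cen T b y) :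
    Cen T b (x * y) :=
  ⟨mul_mem hx.1 hy.1, by rw [mul_smul, hy.2.1, hx.2.1], fun t ht hb => by
    rw [← mul_assoc, hx.2.2 t ht hb, mul_assoc, hy.2.2 t ht hb, mul_assoc]⟩

theorem Cen.inv {T : Subgroup A} {b : Δ} {x : A} (hx : Cen T b x) : Cen T b x⁻¹ :=
  ⟨inv_mem hx.1, by rw [inv_smul_eq_iff, hx.2.1], fun t ht hb =>
    (Commute.inv_right (hx.2.2 t ht hb)).eq⟩

theorem Cen.pow {T : Subgroup A} {b : Δ} {x : A} (hx : Cen T b x) (n : ℕ) : Cen T b (x ^ n) := by
  induction n with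
  | zero => rw [pow_zero]; exact Cen.one T b
  | succ n ih => rw [pow_succ]; exact ih.mul hx

/-- The centre of the stabiliser of `b` in `T`, as a subgroup. -/
def Zc (T : Subgroup A) (b : Δ) : Subgroup A where
  carrier := {x | Cen T b x}
  one_mem' := Cen.one T b
  mul_mem' := Cen.mul
  inv_mem' := Cen.inv

theorem mem_Zc {T : Subgroup A} {b : Δ} {x : A} : x ∈ Zc T b ↔ Cen T b x := Iff.rfl

end B

section A

variable (G : Type*) {Ω : Type*} [Group G] [MulAction G Ω]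

/-- `γ` lies in the orbit of `β` under the stabiliser of `α`. -/
def Gam (α β γ : Ω) : Prop := ∃ h : G, h • α = α ∧ h • β = γ

/-- The hypotheses of S3617 in element form. -/
structure Hyp (α β : Ω) : Prop where
  prim : IsPreprimitive G Ω
  ne : β ≠ α
  big : ∃ h : G, h • α = α ∧ h • β ≠ β
  two : ∀ γ₁ γ₂ δ₁ δ₂ : Ω, Gam G α β γ₁ → Gam G α β γ₂ → Gam G α β δ₁ → Gam G α β δ₂ →
    γ₁ ≠ γ₂ → δ₁ ≠ δ₂ → ∃ h : G, h • α = α ∧ h • γ₁ = δ₁ ∧ h • γ₂ = δ₂

/-- `N` is a minimal normal subgroup. -/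
def MinN {G : Type*} [Group G] (N : Subgroup G) : Prop :=
  N.Normal ∧ N ≠ ⊥ ∧ ∀ M : Subgroup G, M.Normal → M ≤ N → M = ⊥ ∨ M = N

end A

end Cfsg.Agent.DTR
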