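import Cfsg.Agent.DTR.Nec
import Cfsg.Agent.S0119
import Cfsg.Agent.S0027

set_option autoImplicit false
set_option linter.unusedSectionVars false

namespace Cfsg.Agent.DTR

open MulAction
open scoped commutatorElement

variable {A Δ : Type*} [Group A] [Finite A] [MulAction A Δ] [FaithfulSMul A Δ] [Finite Δ]
  {T : Subgroup A}

namespace Spec

theorem cop {x : A} (hp : (orderOf x).Prime) {q : ℕ} (hq : q.Prime) (hqp : q ≠ orderOf x)
    {U : Subgroup A} (hUq : IsPGroup q U) :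
    (Nat.card (Subgroup.zpowers x)).Coprime (Nat.card U) := by
  haveI := Fact.mk hq
  obtain ⟨k, hk⟩ := IsPGroup.iff_card.1 hUq
  rw [hk, Nat.card_zpowers]
  exact Nat.Coprime.pow_right k ((Nat.coprime_primes hp hq).2 hqp.symm)

theorem cent_zp {x v : A} (h : v * x = x * v) :
    v ∈ Subgroup.centralizer (Subgroup.zpowers x : Set A) := by
  rw [Subgroup.mem_centralizer_iff]
  rintro _ ⟨k, rfl⟩
  exact ((Commute.zpow_right (show Commute v x from h) k).eq).symm

end Spec

/-- `x` centralises every abelian `q`-subgroup of `T` it normalises -/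
theorem Ctx.ab (h : Ctx Δ T) {b : Δ} {x : A} (hx : Cen T b x) (hp : (orderOf x).Prime)
    {q : ℕ} (hq : q.Prime) (hqp : q ≠ orderOf x) {U : Subgroup A} (hU : U ≤ T)
    (hUq : IsPGroup q U) (hab : IsMulCommutative U) (hn : x ∈ Subgroup.normalizer (U : Set A)) :
    ∀ u ∈ U, u * x = x * u := by
  intro u hu
  by_contra hne
  have hb : u • b ≠ b := fun e => hne (hx.2.2 u (hU hu) e)
  have hZ : Subgroup.zpowers x ≤ Subgroup.normalizer (U : Set A) := Subgroup.zpowers_le.2 hn
  have hc := Spec.cop hp hq hqp hUq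
  have hdec := (H2.coprime_abelian_decomposition (Subgroup.zpowers x) U hZ hc).1
  have hVU : ⁅U, Subgroup.zpowers x⁆ ≤ U := Subgroup.le_normalizer_iff_commutator_le_left.mp hZ
  have hdis : Subgroup.zpowers x ⊓ U = ⊥ := (Subgroup.disjoint_of_coprime_natCard hc).eq_bot
  refine h.nec hx hp (hU hu) hb ?_
  rintro g ⟨hg, hgn⟩
  have hL : Subgroup.zpowers x ⊔ Subgroup.zpowers (u * x * u⁻¹) ≤
      ⁅U, Subgroup.zpowers x⁆ ⊔ Subgroup.zpowers x := by
    refine sup_le le_sup_right (Subgroup.zpowers_le.2 ?_)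
    have e : u * x * u⁻¹ = ⁅u, x⁆ * x := by rw [commutatorElement_def]; group
    rw [e]
    exact Subgroup.mul_mem_sup (Subgroup.commutator_mem_commutator hu (Subgroup.mem_zpowers x))
      (Subgroup.mem_zpowers x)
  have hg' := hL hg
  rw [← SetLike.mem_coe, Subgroup.coe_mul_of_right_le_normalizer_left _ _
    (Subgroup.normalizer_commutator_ge_right U (Subgroup.zpowers x))] at hg'
  obtain ⟨v, hv, y, hy, e⟩ := hg'
  have e' : g = v * y := e.symm
  have hvn : v ∈ Subgroup.normalizer (Subgroup.zpowers x : Set A) := by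
    have : v = g * y⁻¹ := by rw [e']; group
    rw [this]
    exact mul_mem hgn (inv_mem (Subgroup.le_normalizer hy))
  have h1 : v * x * v⁻¹ * x⁻¹ ∈ Subgroup.zpowers x ⊓ U := by
    refine Subgroup.mem_inf.2 ⟨mul_mem ((Subgroup.mem_normalizer_iff.1 hvn x).1
      (Subgroup.mem_zpowers x)) (inv_mem (Subgroup.mem_zpowers x)), ?_⟩
    have := mul_mem (hVU hv) ((Subgroup.mem_normalizer_iff.1 hn _).1 (inv_mem (hVU hv)))
    simpa only [mul_assoc] using this
  rw [hdis, Subgroup.mem_bot] at h1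
  have h2 : v * x = x * v := by
    calc v * x = (v * x * v⁻¹ * x⁻¹) * (x * v) := by group
      _ = x * v := by rw [h1, one_mul]
  have h3 : v ∈ (U ⊓ Subgroup.centralizer (Subgroup.zpowers x : Set A)) ⊓
      ⁅U, Subgroup.zpowers x⁆ := ⟨⟨hVU hv, Spec.cent_zp h2⟩, hv⟩
  rw [hdec, Subgroup.mem_bot] at h3
  rw [e', h3, one_mul]
  exact hy

/-- `[R, x]` is special with centre its centraliser of `x` -/
theorem Ctx.spec (h : Ctx Δ T) {b : Δ} {x : A} (hx : Cen T b x) (hp : (orderOf x).Prime)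
    {q : ℕ} (hq : q.Prime) (hqp : q ≠ orderOf x) {R : Subgroup A} (hR : R ≤ T)
    (hRq : IsPGroup q R) (hn : x ∈ Subgroup.normalizer (R : Set A)) :
    (∀ u ∈ ⁅R, Subgroup.zpowers x⁆, u ^ q * x = x * u ^ q) ∧
    ∀ z ∈ ⁅R, Subgroup.zpowers x⁆, z * x = x * z →
      ∀ u ∈ ⁅R, Subgroup.zpowers x⁆, u * z = z * u := by
  haveI := Fact.mk hq
  haveI := Fact.mk hp
  have hZ : Subgroup.zpowers x ≤ Subgroup.normalizer (R : Set A) := Subgroup.zpowers_le.2 hn
  have hc := Spec.cop hp hq hqp hRq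
  have hQR : ⁅R, Subgroup.zpowers x⁆ ≤ R := Subgroup.le_normalizer_iff_commutator_le_left.mp hZ
  have hsol : Group.IsSolvable R := by
    have := hRq.isNilpotent
    infer_instance
  have hQQ := S0027.result (Subgroup.zpowers x) R hZ hc (Or.inr hsol)
  have hxQ : x ∈ Subgroup.normalizer ((⁅R, Subgroup.zpowers x⁆ : Subgroup A) : Set A) :=
    Subgroup.normalizer_commutator_ge_right R (Subgroup.zpowers x) (Subgroup.mem_zpowers x)
  generalize ⁅R, Subgroup.zpowers x⁆ = Q at hQR hQQ hxQ ⊢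
  have hQq : IsPGroup q Q := hRq.to_le hQR
  set α : MulAut Q := Q.normalizerMonoidHom ⟨x, hxQ⟩ with hα
  have hαa : ∀ g : Q, ((α g : Q) : A) = x * g * x⁻¹ := fun g => rfl
  have hαn : ∀ (n : ℕ) (g : Q), (((α ^ n) g : Q) : A) = x ^ n * g * (x ^ n)⁻¹ := fun n g => by
    rw [hα, ← map_pow]; rfl
  have hfix : ∀ g : Q, (∀ a ∈ Subgroup.zpowers α, a g = g) ↔ (g : A) * x = x * g := fun g => by
    refine ⟨fun hg => ?_, fun hg a ha => ?_⟩
    · have := congrArg Subtype.val (hg _ (Subgroup.mem_zpowers _))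
      rw [hαa] at this
      exact (mul_inv_eq_iff_eq_mul.1 this).symm
    · refine (Subgroup.zpowers_le (H := MulAction.stabilizer (MulAut Q) g)).2 ?_ ha
      refine Subtype.ext ?_
      change ((α g : Q) : A) = g
      rw [hαa]
      exact mul_inv_eq_iff_eq_mul.2 hg.symm
  have hαp : α ^ orderOf x = 1 := by
    ext g
    rw [hαn, pow_orderOf_eq_one]
    simp
  obtain ⟨h1, h2⟩ := S0119.result hQq (Subgroup.zpowers α)
    (by
      rw [Nat.card_zpowers]
      exact Nat.Coprime.coprime_dvd_left (orderOf_dvd_of_pow_eq_one hαp)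
        ((Nat.coprime_primes hp hq).2 hqp.symm))
    (by
      rw [eq_top_iff, ← Subgroup.map_subtype_le_map_subtype, ← MonoidHom.range_eq_map,
        Subgroup.range_subtype]
      refine hQQ.ge.trans (Subgroup.commutator_le.2 fun g hg y hy => ?_)
      obtain ⟨n, rfl⟩ := mem_powers_iff_mem_zpowers.2 hy
      refine ⟨_, Subgroup.subset_closure ⟨⟨g⁻¹, inv_mem hg⟩, α ^ n,
        pow_mem (Subgroup.mem_zpowers _) n, rfl⟩, ?_⟩
      simp [hαn, commutatorElement_def, mul_assoc])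
    (fun H hH hab a ha g hg => by
      refine (hfix g).2 (h.ab hx hp hq hqp (U := H.map Q.subtype)
        ((Subgroup.map_subtype_le H).trans (hQR.trans hR))
        (hQq.to_le (Subgroup.map_subtype_le H)) inferInstance ?_ _ ⟨g, hg, rfl⟩) a ha
      refine Subgroup.mem_normalizer_fintype ?_
      rintro _ ⟨k, hk, rfl⟩
      exact ⟨α k, (Subgroup.characteristic_iff_map_le.1 hH α) ⟨k, hk, rfl⟩, rfl⟩)
  refine ⟨fun u hu => ?_, fun z hz hzx u hu => ?_⟩
  · have h3 := H3.pow_mem_frattini hQq (⟨u, hu⟩ : Q)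
    rw [h1.2.1] at h3
    exact (hfix _).1 ((h2 _).1 h3)
  · have h3 := (h2 ⟨z, hz⟩).2 ((hfix _).2 hzx)
    exact congrArg Subtype.val (Subgroup.mem_center_iff.1 h3 ⟨u, hu⟩)

end Cfsg.Agent.DTR
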