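import Cfsg.Agent.DTR.Pair
import Cfsg.Agent.DTR.Spec
import Cfsg.Agent.DT.NA
import Cfsg.Agent.DT.Ind

set_option autoImplicit false
set_option linter.unusedSectionVars false

namespace Cfsg.Agent.DTR

open MulAction
open scoped commutatorElement

variable {A Δ : Type*} [Group A] [Finite A] [MulAction A Δ] [FaithfulSMul A Δ] [Finite Δ]
  {T : Subgroup A}

theorem partB_prime (h : Ctx Δ T) {b : Δ} {x : A} (hx : Cen T b x) (hp : (orderOf x).Prime) :
    False := by
  obtain ⟨q, hq, hpair⟩ := h.pair b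
  obtain ⟨hqp, hQ⟩ := hpair x hx hp
  have : Fact q.Prime := ⟨hq⟩
  set x' : T := ⟨x, hx.1⟩ with hx'
  have ho : orderOf x' = orderOf x := (Subgroup.orderOf_coe x').symm
  have h1 : DT.H1 q x' := by
    intro y hy
    obtain ⟨t, rfl⟩ := isConj_iff.1 hy
    obtain ⟨Q, hQT, hQq, hn, hm⟩ := hQ t t.2
    refine ⟨Q.subgroupOf T, hQq.of_equiv (Subgroup.subgroupOfEquivOfLe hQT).symm,
      DT.mem_nor.2 fun a => ?_, hm⟩
    exact Subgroup.mem_normalizer_iff.1 hn a
  have h2 : DT.H2 q x' := by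
    refine DT.h2_of_na hp hq hqp.symm x' ho fun U hU hab hn u hu => DT.mem_cen.2 ?_
    have hab' : IsMulCommutative (U.map T.subtype) := inferInstance
    have := h.ab hx hp hq hqp (Subgroup.map_subtype_le U) (hU.map _) hab'
      (Subgroup.le_normalizer_map T.subtype ⟨x', hn, rfl⟩) u ⟨u, hu, rfl⟩
    exact Subtype.ext this
  have h3 := DT.tq hp hq (h.ne_two hx) hqp.symm x' ho h1 h2
  have hs := h.simple
  have hn : (DT.cm (⊤ : Subgroup T) x').Normal :=
    Subgroup.normalizer_eq_top_iff.1 (eq_top_iff.2 (DT.le_nor_cm ⊤ x'))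
  rcases hn.eq_bot_or_eq_top with h4 | h4
  · have h5 := h.cen_one hx.1 fun t ht =>
      congrArg Subtype.val (DT.cm_eq_bot_iff.1 h4 ⟨t, ht⟩ (Subgroup.mem_top _)).eq
    rw [h5, orderOf_one] at hp
    exact Nat.not_prime_one hp
  · rw [h4] at h3
    obtain ⟨k, hk⟩ := IsPGroup.iff_orderOf.1 h3 ⟨x', Subgroup.mem_top _⟩
    rw [← Subgroup.orderOf_coe, ho] at hk
    exact hqp ((Nat.prime_dvd_prime_iff_eq hp hq).1
      (hp.dvd_of_dvd_pow (hk ▸ dvd_rfl : orderOf x ∣ q ^ k))).symm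

theorem Ctx.partB (h : Ctx Δ T) {b : Δ} {x : A} (hx : Cen T b x) : x = 1 := by
  by_contra h1
  have h2 : orderOf x ≠ 1 := fun e => h1 (orderOf_eq_one_iff.1 e)
  have h3 := Nat.minFac_prime h2
  refine partB_prime h (hx.pow (orderOf x / (orderOf x).minFac)) ?_
  rw [orderOf_pow_orderOf_div (orderOf_pos x).ne' (Nat.minFac_dvd _)]
  exact h3

end Cfsg.Agent.DTR
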