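import Cfsg.Agent.DTR.Ktr
import Cfsg.Agent.DTR.PartB
import Cfsg.Agent.DTR.B1
import Cfsg.Agent.S0700
import Cfsg.Agent.S3680

set_option autoImplicit false
set_option linter.unusedSectionVars false

namespace Cfsg.Agent.DTR

open MulAction
open scoped commutatorElement

theorem diag_trans {A Δ : Type*} [Group A] [MulAction A Δ] [FaithfulSMul A Δ]
    (h2 : IsMultiplyPretransitive A Δ 2) {M : Subgroup A} (hM : M.Normal) (h1 : M ≠ ⊥) :
    IsPretransitive M Δ := by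
  obtain ⟨⟨m, hm⟩, hm1⟩ := Subgroup.ne_bot_iff_exists_ne_one.1 h1
  have hm1' : m ≠ 1 := fun e => hm1 (Subtype.ext e)
  obtain ⟨a, ha⟩ : ∃ a : Δ, m • a ≠ a := by
    by_contra hc
    push Not at hc
    exact hm1' (FaithfulSMul.eq_of_smul_eq_smul (α := Δ) fun a => by rw [hc a, one_smul])
  refine ⟨fun c d => ?_⟩
  by_cases hcd : c = d
  · exact ⟨1, by rw [one_smul, hcd]⟩
  obtain ⟨g, hg1, hg2⟩ := is_two_pretransitive_iff.1 h2 ha.symm hcd
  refine ⟨⟨g * m * g⁻¹, hM.conj_mem m hm g⟩, ?_⟩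
  change (g * m * g⁻¹) • c = d
  rw [← hg1, mul_smul, inv_smul_smul, mul_smul, hg2]

theorem diag_abs {A Δ : Type*} [Group A] [Finite A] [MulAction A Δ] [FaithfulSMul A Δ] [Finite Δ]
    (h2 : IsMultiplyPretransitive A Δ 2) {b c : Δ} (hbc : c ≠ b) {K : Subgroup A} (hK : K.Normal) (hK1 : K ≠ ⊥)
    {T : Type} [Group T] [IsSimpleGroup T] (hT : ¬ IsMulCommutative T) {ι : Type} (ψ : ι → T →* A)
    (hle : ∀ i t, ψ i t ∈ K)
    (hnr : ∀ i t, ∀ k ∈ K, k * ψ i t * k⁻¹ ∈ (ψ i).range)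
    (hgen : K ≤ ⨆ i, (ψ i).range)
    (hst : ∀ i, (∀ t, ψ i t • b = b) ∨ ∃ x : T, x ≠ 1 ∧ ∀ t, ψ i t • b = b → t * x = x * t) :
    False := by
  obtain ⟨M, ⟨hMn, hM1, hMK⟩, hmin⟩ := WellFounded.has_min (wellFounded_lt (α := Subgroup A))
    {M : Subgroup A | M.Normal ∧ M ≠ ⊥ ∧ M ≤ K} ⟨K, hK, hK1, le_rfl⟩
  have hmin' : ∀ L : Subgroup A, L.Normal → L ≤ M → L = ⊥ ∨ L = M := by
    intro L hL hLM
    by_cases hb : L = ⊥
    · exact Or.inl hb
    · refine Or.inr ?_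
      by_contra hne
      exact hmin L ⟨hL, hb, hLM.trans hMK⟩ (lt_of_le_of_ne hLM hne)
  have htr := diag_trans h2 hMn hM1
  have hinj : ∀ i, Function.Injective (ψ i) ∨ ∀ t, ψ i t = 1 := by
    intro i
    rcases (ψ i).normal_ker.eq_bot_or_eq_top with e | e
    · exact Or.inl ((MonoidHom.ker_eq_bot_iff _).1 e)
    · exact Or.inr fun t => (MonoidHom.mem_ker).1 (e ▸ Subgroup.mem_top t)
  have hnab : ∀ i, Function.Injective (ψ i) → ¬ ∀ s t, ψ i s * ψ i t = ψ i t * ψ i s := by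
    intro i hi hc
    exact hT ⟨⟨fun s t => hi (by rw [map_mul, map_mul, hc])⟩⟩
  by_cases hA : ∀ m ∈ M, ∀ i t, m * ψ i t = ψ i t * m
  · have hcen : ∀ m ∈ M, ∀ l ∈ K, Commute m l := by
      intro m hm l hl
      have : (⨆ i, (ψ i).range) ≤ Subgroup.centralizer {m} := by
        refine iSup_le fun i => ?_
        rintro _ ⟨t, rfl⟩
        exact Subgroup.mem_centralizer_singleton_iff.2 (hA m hm i t).symm
      exact (Subgroup.mem_centralizer_singleton_iff.1 (this (hgen hl))).symm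
    have hKM : K ≤ M := S3680.le_of_comm htr htr b (fun m hm n hn => hcen m hm n (hMK hn)) hcen
    apply hK1
    rw [eq_bot_iff]
    refine hgen.trans (iSup_le fun i => ?_)
    rintro _ ⟨t, rfl⟩
    rcases hinj i with hi | hi
    · exact absurd (fun s t => (hcen _ (hKM (hle i s)) _ (hle i t)).eq) (hnab i hi)
    · exact Subgroup.mem_bot.2 (hi t)
  push Not at hA
  obtain ⟨m, hm, i, t, hmt⟩ := hA
  have hi : Function.Injective (ψ i) := by
    rcases hinj i with hi | hi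
    · exact hi
    · exact absurd (by rw [hi t, mul_one, one_mul]) hmt
  have hRM : ∀ s, ψ i s ∈ M := by
    obtain ⟨s, hs⟩ := hnr i t m (hMK hm)
    have hw : ψ i (s * t⁻¹) ∈ M := by
      have : ψ i (s * t⁻¹) = m * (ψ i t * m⁻¹ * (ψ i t)⁻¹) := by rw [map_mul, map_inv, hs]; group
      rw [this]
      exact M.mul_mem hm (hMn.conj_mem _ (M.inv_mem hm) _)
    rcases (hMn.comap (ψ i)).eq_bot_or_eq_top with e | e
    · have h0 : s * t⁻¹ ∈ M.comap (ψ i) := hw
      rw [e, Subgroup.mem_bot, mul_inv_eq_one] at h0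
      rw [h0] at hs
      exact absurd (by calc m * ψ i t = m * ψ i t * m⁻¹ * m := by group
        _ = ψ i t * m := by rw [← hs]) hmt
    · intro s'
      have : s' ∈ M.comap (ψ i) := e ▸ Subgroup.mem_top s'
      exact this
  have hMnab : ¬ IsMulCommutative M := by
    intro hc
    refine hnab i hi fun s t => ?_
    exact congrArg Subtype.val (hc.is_comm.comm (⟨ψ i s, hRM s⟩ : M) ⟨ψ i t, hRM t⟩)
  have hsimple : IsSimpleGroup M := by
    rcases S0700.aux h2 M hM1 hmin' with h | h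
    · exact absurd h.1 hMnab
    · exact h.1
  have hctx : Ctx Δ M := ⟨h2, hMn, hsimple, hMnab⟩
  have hMR : ∀ y ∈ M, ∃ s, ψ i s = y := by
    have hn : ((ψ i).range.subgroupOf M).Normal := ⟨fun y hy g => by
      obtain ⟨s, hs⟩ := Subgroup.mem_subgroupOf.1 hy
      rw [Subgroup.mem_subgroupOf]
      have := hnr i s g (hMK g.2)
      rw [hs] at this
      exact this⟩
    rcases hn.eq_bot_or_eq_top with e | e
    · have h0 : (⟨ψ i t, hRM t⟩ : M) ∈ (ψ i).range.subgroupOf M := Subgroup.mem_subgroupOf.2 ⟨t, rfl⟩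
      rw [e, Subgroup.mem_bot] at h0
      have h0' : ψ i t = 1 := congrArg Subtype.val h0
      exact absurd (by rw [h0', mul_one, one_mul]) hmt
    · intro y hy
      have : (⟨y, hy⟩ : M) ∈ (ψ i).range.subgroupOf M := e ▸ Subgroup.mem_top _
      exact Subgroup.mem_subgroupOf.1 this
  rcases hst i with hs | ⟨x, hx1, hx⟩
  · obtain ⟨y, hy, e⟩ := hctx.trans b c
    obtain ⟨s, rfl⟩ := hMR y hy
    exact hbc (by rw [← e, hs s])
  · have hcm : ∀ y ∈ M, y • b = b → y * ψ i x = ψ i x * y := by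
      intro y hy hyb
      obtain ⟨s, rfl⟩ := hMR y hy
      rw [← map_mul, ← map_mul, hx s hyb]
    have hx1' : ψ i x ≠ 1 := fun e => hx1 (hi (by rw [e, map_one]))
    rcases hctx.max b (X := M ⊓ Subgroup.centralizer {ψ i x}) inf_le_left
      (fun y hy => ⟨hy.1, Subgroup.mem_centralizer_singleton_iff.2 (hcm y hy.1 hy.2)⟩) with e | e
    · have h0 : ψ i x ∈ M ⊓ Subgroup.centralizer {ψ i x} :=
        ⟨hRM x, Subgroup.mem_centralizer_singleton_iff.2 rfl⟩
      rw [e] at h0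
      exact hx1' (hctx.partB (b := b) ⟨hRM x, h0.2, hcm⟩)
    · refine hx1' (hctx.cen_one (hRM x) fun y hy => ?_)
      rw [← e] at hy
      exact Subgroup.mem_centralizer_singleton_iff.1 hy.2

variable {G Ω : Type*} [Group G] [Finite G] [MulAction G Ω] [FaithfulSMul G Ω] [Finite Ω]
  {α β : Ω}

/-- the stabiliser `S_α` is generated by simple normal subgroups whose stabilisers of `β` are
everything or centralise a non-trivial element: impossible -/
theorem Hyp.diag (h : Hyp G α β) {S : Subgroup G} (hS : S.Normal)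
    (h1 : ∃ s ∈ S, s ≠ 1 ∧ s • α = α) {T : Type} [Group T] [IsSimpleGroup T]
    (hT : ¬ IsMulCommutative T) {ι : Type} (φ : ι → T →* G)
    (hle : ∀ i t, φ i t ∈ S ∧ φ i t • α = α)
    (hnr : ∀ i t, ∀ k ∈ S, k • α = α → k * φ i t * k⁻¹ ∈ (φ i).range)
    (hgen : S ⊓ stabilizer G α ≤ ⨆ i, (φ i).range)
    (hst : ∀ i, (∀ t, φ i t • β = β) ∨ ∃ x : T, x ≠ 1 ∧ ∀ t, φ i t • β = β → t * x = x * t) :
    False := by
  let H : Subgroup G := stabilizer G α
  let Γ := ↥(orbit H β)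
  let f : H →* (toPermHom H Γ).range := (toPermHom H Γ).rangeRestrict
  have hf : Function.Surjective f := MonoidHom.rangeRestrict_surjective _
  have hfs : ∀ (g : H) (γ : Γ), ((f g • γ : Γ) : Ω) = (g : G) • (γ : Ω) := fun g γ => rfl
  have hgam : ∀ γ : Γ, Gam G α β γ := fun γ => by
    obtain ⟨g, hg⟩ := γ.2
    exact ⟨g, g.2, hg⟩
  have h2 : IsMultiplyPretransitive (toPermHom H Γ).range Γ 2 := by
    refine is_two_pretransitive_iff.2 fun {a b c d} hab hcd => ?_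
    obtain ⟨g, hg, e1, e2⟩ := h.two a b c d (hgam a) (hgam b) (hgam c) (hgam d)
      (fun e => hab (Subtype.ext e)) (fun e => hcd (Subtype.ext e))
    exact ⟨f ⟨g, hg⟩, Subtype.ext e1, Subtype.ext e2⟩
  let b : Γ := ⟨β, mem_orbit_self β⟩
  obtain ⟨k, hk, hkα, hkβ⟩ := h.moves hS h1
  let φ' : ι → T →* H := fun i => (φ i).codRestrict H fun t => (hle i t).2
  refine diag_abs h2 (b := b) (c := f ⟨k, hkα⟩ • b) (fun e => hkβ (congrArg Subtype.val e))
    (K := (S.subgroupOf H).map f) (Subgroup.Normal.map inferInstance f hf) ?_ hT (fun i => f.comp (φ' i))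
    ?_ ?_ ?_ ?_
  · intro e
    have h0 : f ⟨k, hkα⟩ ∈ (S.subgroupOf H).map f := ⟨⟨k, hkα⟩, hk, rfl⟩
    rw [e, Subgroup.mem_bot] at h0
    apply hkβ
    have := hfs ⟨k, hkα⟩ b
    rw [h0, one_smul] at this
    exact this.symm
  · intro i t
    exact ⟨φ' i t, (hle i t).1, rfl⟩
  · rintro i t _ ⟨g, hg, rfl⟩
    obtain ⟨s, hs⟩ := hnr i t g hg g.2
    refine ⟨s, ?_⟩
    have : φ' i s = g * φ' i t * g⁻¹ := Subtype.ext hs
    rw [MonoidHom.comp_apply, this, map_mul, map_mul, map_inv]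
    rfl
  · rintro _ ⟨g, hg, rfl⟩
    have h0 : (⨆ i, (φ i).range) ≤ ((⨆ i, (f.comp (φ' i)).range).comap f).map H.subtype := by
      refine iSup_le fun i => ?_
      rintro _ ⟨t, rfl⟩
      refine ⟨φ' i t, ?_, rfl⟩
      exact (le_iSup (fun i => (f.comp (φ' i)).range) i) ⟨t, rfl⟩
    obtain ⟨g', hg', e⟩ := h0 (hgen ⟨hg, g.2⟩)
    have : g' = g := Subtype.ext e
    rw [← this]
    exact hg'
  · intro i
    rcases hst i with hs | ⟨x, hx1, hx⟩
    · exact Or.inl fun t => Subtype.ext (hs t)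
    · exact Or.inr ⟨x, hx1, fun t ht => hx t (congrArg Subtype.val ht)⟩

end Cfsg.Agent.DTR
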