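import Cfsg.Agent.DTR.B1
import Cfsg.Agent.H12.ZassBasic

set_option autoImplicit false
set_option linter.unusedSectionVars false

namespace Cfsg.Agent.DTR

open MulAction
open scoped commutatorElement

variable {A Δ : Type*} [Group A] [Finite A] [MulAction A Δ] [FaithfulSMul A Δ] [Finite Δ]
  {T : Subgroup A}

theorem Frob.J_map (hT : T.Normal) (g : A) (b c : Δ) :
    (J T b c).map (MulAut.conj g).toMonoidHom = J T (g • b) (g • c) := by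
  ext y
  simp only [Subgroup.mem_map, mem_J, MulEquiv.coe_toMonoidHom, MulAut.conj_apply]
  constructor
  · rintro ⟨j, ⟨h1, h2, h3⟩, rfl⟩
    exact ⟨hT.conj_mem _ h1 g, by rw [mul_smul, inv_smul_smul, mul_smul, h2],
      by rw [mul_smul, inv_smul_smul, mul_smul, h3]⟩
  · rintro ⟨h1, h2, h3⟩
    refine ⟨g⁻¹ * y * g⁻¹⁻¹, ⟨hT.conj_mem _ h1 _, ?_, ?_⟩, by group⟩
    · rw [inv_inv, mul_smul, mul_smul, h2, inv_smul_smul]
    · rw [inv_inv, mul_smul, mul_smul, h3, inv_smul_smul]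

theorem Frob.b_mem (b c : Δ) : b ∈ F T b c := fun _ hj => (mem_J.1 hj).2.1

theorem Frob.c_mem (b c : Δ) : c ∈ F T b c := fun _ hj => (mem_J.1 hj).2.2

/-- any two distinct fixed points have the same two point stabiliser -/
theorem Ctx.J_eq (h : Ctx Δ T) {b c d e : Δ} (hbc : b ≠ c) (hd : d ∈ F T b c) (he : e ∈ F T b c)
    (hde : d ≠ e) : J T d e = J T b c := by
  obtain ⟨g, rfl, rfl⟩ := h.two' hbc hde
  refine (Subgroup.eq_of_le_of_card_ge (fun j hj => mem_J.2 ⟨(mem_J.1 hj).1, hd j hj, he j hj⟩)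
    ?_).symm
  rw [← Frob.J_map h.nrm, Subgroup.card_map_of_injective (MulAut.conj g).injective]

theorem Frob.smul_mem {b c d : Δ} {g : A} (hg : g ∈ Subgroup.normalizer (J T b c : Set A))
    (hd : d ∈ F T b c) : g • d ∈ F T b c := fun j hj => by
  have h1 : g⁻¹ * j * g⁻¹⁻¹ ∈ J T b c :=
    (Subgroup.mem_normalizer_iff.1 (inv_mem hg) j).1 hj
  have h2 := hd _ h1
  rw [inv_inv, mul_smul, mul_smul, inv_smul_eq_iff] at h2
  exact h2

/-- the normaliser of `J` is doubly transitive on the fixed points of `J` -/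
theorem Ctx.two_F (h : Ctx Δ T) {b c d e d' e' : Δ} (hbc : b ≠ c) (hd : d ∈ F T b c)
    (he : e ∈ F T b c) (hde : d ≠ e) (hd' : d' ∈ F T b c) (he' : e' ∈ F T b c) (hde' : d' ≠ e') :
    ∃ g ∈ Subgroup.normalizer (J T b c : Set A), g • d = d' ∧ g • e = e' := by
  obtain ⟨g, rfl, rfl⟩ := h.two' hde hde'
  refine ⟨g, ?_, rfl, rfl⟩
  have e1 := Frob.J_map h.nrm g d e
  rw [h.J_eq hbc hd he hde, h.J_eq hbc hd' he' hde'] at e1
  rw [Subgroup.mem_normalizer_iff]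
  intro y
  constructor
  · intro hy
    have : g * y * g⁻¹ ∈ (J T b c).map (MulAut.conj g).toMonoidHom := ⟨y, hy, rfl⟩
    rwa [e1] at this
  · intro hy
    have hy' : g * y * g⁻¹ ∈ (J T b c).map (MulAut.conj g).toMonoidHom := by rw [e1]; exact hy
    obtain ⟨j, hj, e2⟩ := hy'
    have : j = y := (MulAut.conj g).injective e2
    exact this ▸ hj

theorem Frob.cen_mem_norm {b c : Δ} {x : A} (hx : Cen T b x) :
    x ∈ Subgroup.normalizer (J T b c : Set A) := by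
  have hc : ∀ y ∈ J T b c, x * y * x⁻¹ = y := fun y hy => by
    rw [← hx.2.2 y (mem_J.1 hy).1 (mem_J.1 hy).2.1]; group
  have hc' : ∀ y ∈ J T b c, x⁻¹ * y * x = y := fun y hy => by
    rw [mul_assoc, hx.2.2 y (mem_J.1 hy).1 (mem_J.1 hy).2.1]; group
  rw [Subgroup.mem_normalizer_iff]
  refine fun y => ⟨fun hy => ?_, fun hy => ?_⟩
  · rw [hc y hy]; exact hy
  · have := hc' _ hy
    have e : y = x * y * x⁻¹ := by rw [← this]; group
    rw [e]; exact hy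

/-- Frobenius kernel of `N_T(J)` on the fixed points of `J`. -/
theorem Ctx.frob (h : Ctx Δ T) {b c : Δ} (hbc : b ≠ c) {x : A} (hx : Cen T b x) (h1 : x ≠ 1) :
    ∃ (q : ℕ) (K : Subgroup A), q.Prime ∧
      (∀ g, g ∈ K ↔ g ∈ T ∧ g ∈ Subgroup.normalizer (J T b c : Set A) ∧
        (g ∈ J T b c ∨ ∀ d ∈ F T b c, g • d ≠ d)) ∧
      (∀ d ∈ F T b c, ∃ k ∈ K, k • b = d) ∧ ∀ k ∈ K, k ^ q ∈ J T b c := by
  classical
  set N := Subgroup.normalizer (J T b c : Set A) with hN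
  let S : SubMulAction N Δ := ⟨F T b c, fun g _ hd => Frob.smul_mem g.2 hd⟩
  haveI : Finite S := Subtype.finite
  let φ : N →* Equiv.Perm S := MulAction.toPermHom N S
  have hφ : ∀ (g : N) (d : S), ((φ g d : S) : Δ) = (g : A) • (d : Δ) := fun g d => rfl
  let b' : S := ⟨b, Frob.b_mem b c⟩
  let c' : S := ⟨c, Frob.c_mem b c⟩
  have hxN : x ∈ N := Frob.cen_mem_norm hx
  have hxc : x • c ≠ c := fun e => hbc (h.fix hx h1 e).symm
  have hone : ∀ g : N, (g : A) ∈ T → (φ g = 1 ↔ (g : A) ∈ J T b c) := fun g hg =>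
    ⟨fun e => mem_J.2 ⟨hg, by rw [← hφ g b', e]; rfl, by rw [← hφ g c', e]; rfl⟩,
      fun hj => Equiv.ext fun d => Subtype.ext (by rw [hφ]; exact d.2 _ hj)⟩
  obtain ⟨K', hK', htr⟩ := H12.exists_frobenius_kernel (G := Equiv.Perm S) (Ω := S)
    ((T.subgroupOf N).map φ) Set.univ (b := b') trivial (fun _ _ => trivial) (fun y _ => by
      by_cases hy : y = b'
      · exact ⟨1, one_mem _, by rw [hy, one_smul]⟩
      obtain ⟨g, hg, e1, e2⟩ := h.two_F hbc (Frob.c_mem b c)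
        (Frob.smul_mem hxN (Frob.c_mem b c)) hxc.symm (Frob.b_mem b c) y.2
        (fun e => hy (Subtype.ext e.symm))
      refine ⟨φ ⟨g * x * g⁻¹, mul_mem (mul_mem hg hxN) (inv_mem hg)⟩,
        ⟨_, h.nrm.conj_mem _ hx.1 g, rfl⟩, Subtype.ext ?_⟩
      rw [Equiv.Perm.smul_def, hφ]
      show (g * x * g⁻¹) • b = y
      rw [← e2, ← e1, mul_smul, inv_smul_smul, mul_smul]) (by
      rintro _ ⟨m, hm, rfl⟩ hm1 d - e - hd he
      by_contra hde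
      refine hm1 ((hone m hm).2 ?_)
      rw [← h.J_eq hbc d.2 e.2 (fun e' => hde (Subtype.ext e'))]
      exact mem_J.2 ⟨hm, congrArg Subtype.val hd, congrArg Subtype.val he⟩)
  let K : Subgroup A := (K'.comap φ ⊓ T.subgroupOf N).map N.subtype
  have hK : ∀ g, g ∈ K ↔ g ∈ T ∧ g ∈ N ∧ (g ∈ J T b c ∨ ∀ d ∈ F T b c, g • d ≠ d) := by
    intro g
    constructor
    · rintro ⟨g, ⟨hg1, hg2⟩, rfl⟩
      refine ⟨hg2, g.2, ((hK' _).1 hg1).2.imp (hone g hg2).1 fun hh d hd e => ?_⟩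
      exact hh ⟨d, hd⟩ trivial (Subtype.ext e)
    · rintro ⟨hg1, hg2, hg3⟩
      refine ⟨⟨g, hg2⟩, ⟨(hK' _).2 ⟨⟨_, hg1, rfl⟩, hg3.imp (hone ⟨g, hg2⟩ hg1).2
        fun hh d _ e => hh d d.2 (congrArg Subtype.val e)⟩, hg1⟩, rfl⟩
  have hKtr : ∀ d ∈ F T b c, ∃ k ∈ K, k • b = d := by
    intro d hd
    obtain ⟨k, hk, e⟩ := htr ⟨d, hd⟩ trivial
    obtain ⟨m, hm, rfl⟩ := ((hK' k).1 hk).1
    exact ⟨m, ⟨m, ⟨hk, hm⟩, rfl⟩, congrArg Subtype.val e⟩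
  have hreg : ∀ k ∈ K, k • b = b → k ∈ J T b c := fun k hk e =>
    ((hK k).1 hk).2.2.resolve_right fun hh => hh b (Frob.b_mem b c) e
  have hconj : ∀ g ∈ N, ∀ k ∈ K, g * k * g⁻¹ ∈ K := by
    intro g hg k hk
    obtain ⟨k1, k2, k3⟩ := (hK k).1 hk
    refine (hK _).2 ⟨h.nrm.conj_mem _ k1 g, mul_mem (mul_mem hg k2) (inv_mem hg),
      k3.imp (fun hj => (Subgroup.mem_normalizer_iff.1 hg k).1 hj) fun hh d hd e => ?_⟩
    refine hh (g⁻¹ • d) (Frob.smul_mem (inv_mem hg) hd) ?_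
    rw [mul_smul, mul_smul, smul_eq_iff_eq_inv_smul] at e
    exact e
  obtain ⟨k0, hk0, e0⟩ := hKtr c (Frob.c_mem b c)
  have hk0N : k0 ∈ N := ((hK k0).1 hk0).2.1
  have hk0T : k0 ∈ T := ((hK k0).1 hk0).1
  have hne : φ ⟨k0, hk0N⟩ ≠ 1 := fun e =>
    hbc (by rw [← e0]; exact ((mem_J.1 ((hone ⟨k0, hk0N⟩ hk0T).1 e)).2.1).symm)
  have ho : orderOf (φ ⟨k0, hk0N⟩) ≠ 1 := fun e => hne (orderOf_eq_one_iff.1 e)
  obtain ⟨q, hq, n, hn⟩ := Nat.exists_prime_and_dvd ho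
  have hpos := orderOf_pos (φ ⟨k0, hk0N⟩)
  have hn0 : 0 < n := Nat.pos_of_ne_zero (by rintro rfl; omega)
  have hpw : ∀ m : ℕ, k0 ^ m ∈ J T b c ↔ orderOf (φ ⟨k0, hk0N⟩) ∣ m := fun m => by
    rw [orderOf_dvd_iff_pow_eq_one, ← map_pow]
    exact (hone (⟨k0, hk0N⟩ ^ m) (pow_mem hk0T m)).symm
  have hk1 : k0 ^ n ∉ J T b c := fun e => by
    have h2 := Nat.le_of_dvd hn0 ((hpw n).1 e)
    have h3 := hq.two_le
    rw [hn] at h2
    nlinarith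
  have hk1q : (k0 ^ n) ^ q ∈ J T b c := by
    rw [← pow_mul, hpw, hn, mul_comm]
  refine ⟨q, K, hq, hK, hKtr, fun k hk => ?_⟩
  by_cases hkJ : k ∈ J T b c
  · exact pow_mem hkJ q
  have hkN : k ∈ N := ((hK k).1 hk).2.1
  have hk1K : k0 ^ n ∈ K := pow_mem hk0 n
  obtain ⟨g, hg, e1, e2⟩ := h.two_F hbc (Frob.b_mem b c)
    (Frob.smul_mem (pow_mem hk0N n) (Frob.b_mem b c)) (fun e => hk1 (hreg _ hk1K e.symm))
    (Frob.b_mem b c) (Frob.smul_mem hkN (Frob.b_mem b c)) (fun e => hkJ (hreg _ hk e.symm))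
  have hw : g * k0 ^ n * g⁻¹ ∈ K := hconj g hg _ hk1K
  have hwq : (g * k0 ^ n * g⁻¹) ^ q ∈ J T b c := by
    rw [conj_pow]; exact (Subgroup.mem_normalizer_iff.1 hg _).1 hk1q
  have hd : k⁻¹ * (g * k0 ^ n * g⁻¹) ∈ J T b c := by
    refine hreg _ (mul_mem (inv_mem hk) hw) ?_
    rw [mul_smul, inv_smul_eq_iff, ← e2, mul_smul, mul_smul, inv_smul_eq_iff.2 e1.symm]
  have hwN : g * k0 ^ n * g⁻¹ ∈ N := ((hK _).1 hw).2.1
  have e3 : φ ⟨k, hkN⟩ = φ ⟨_, hwN⟩ := by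
    have := (hone (⟨k, hkN⟩⁻¹ * ⟨_, hwN⟩) (mem_J.1 hd).1).2 hd
    rwa [map_mul, map_inv, inv_mul_eq_one] at this
  have e4 := (hone (⟨_, hwN⟩ ^ q) (mem_J.1 hwq).1).2 hwq
  rw [map_pow, ← e3, ← map_pow] at e4
  exact (hone _ (pow_mem ((hK k).1 hk).1 q)).1 e4

end Cfsg.Agent.DTR
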