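import Cfsg.Agent.DTR.Diag
import Cfsg.Agent.S0721
import Cfsg.Agent.S0700

set_option autoImplicit false
set_option linter.unusedSectionVars false

namespace Cfsg.Agent.DTR

open MulAction
open scoped commutatorElement

variable {G Ω : Type*} [Group G] [Finite G] [MulAction G Ω] [FaithfulSMul G Ω] [Finite Ω]
  {α β : Ω}

/-- a non-abelian minimal normal subgroup has trivial centraliser -/
theorem Hyp.hs (h : Hyp G α β) {N : Subgroup G} (hN : MinN N) (hnab : ¬ IsMulCommutative N) :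
    Subgroup.centralizer (N : Set G) = ⊥ := by
  classical
  by_contra hC
  obtain ⟨nN, N0, hmin⟩ := hN
  set C := Subgroup.centralizer (N : Set G) with hCdef
  have nC : C.Normal := inferInstance
  have cm : ∀ n ∈ N, ∀ d ∈ C, n * d = d * n := fun n hn d hd => hd n hn
  have tN : IsPretransitive N Ω := ⟨fun a b => by
    obtain ⟨s, hs, e⟩ := h.trans nN N0 a b
    exact ⟨⟨s, hs⟩, e⟩⟩
  have tC : IsPretransitive C Ω := ⟨fun a b => by
    obtain ⟨s, hs, e⟩ := h.trans nC hC a b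
    exact ⟨⟨s, hs⟩, e⟩⟩
  have sC : ∀ d ∈ C, d • α = α → d = 1 := fun d hd e =>
    S0700.semireg N (fun m hm => (cm m hm d hd).symm) e
  have sN : ∀ n ∈ N, n • α = α → n = 1 := fun n hn e => S0700.semireg C (fun m hm => cm n hn m hm) e
  have NC : ∀ n ∈ N, n ∈ C → n = 1 := fun n h1 h2 => by
    rcases hmin (N ⊓ C) inferInstance inf_le_left with e | e
    · exact Subgroup.mem_bot.1 (e ▸ Subgroup.mem_inf.2 ⟨h1, h2⟩)
    · exact absurd ⟨⟨fun a b => Subtype.ext (cm a a.2 b (e.ge b.2).2)⟩⟩ hnab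
  choose c hc hcα using fun n : N => h.trans nC hC α ((n : G)⁻¹ • α)
  have fx : ∀ n : N, ((n : G) * c n) • α = α := fun n => by rw [mul_smul, hcα, smul_inv_smul]
  have U : ∀ (n : N), ∀ d ∈ C, ((n : G) * d) • α = α → c n = d := fun n d hd e => by
    refine inv_mul_eq_one.1 (sC _ (mul_mem (inv_mem (hc n)) hd) ?_)
    rw [mul_smul, inv_smul_eq_iff, hcα, eq_inv_smul_iff, ← mul_smul, e]
  let ψ : N →* G := MonoidHom.mk' (fun n => (n : G) * c n) fun n m => by
    have e : (n : G) * c n * (m * c m) = (n * m : N) * (c n * c m) := by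
      rw [Subgroup.coe_mul, mul_assoc, ← mul_assoc (c n), ← cm m m.2 _ (hc n)]
      simp only [mul_assoc]
    rw [e, U (n * m) _ (mul_mem (hc n) (hc m)) (by rw [← e, mul_smul, fx, fx])]
  have rg : ∀ k ∈ N ⊔ C, k • α = α → ∃ n, ψ n = k := fun k hk e => by
    obtain ⟨n, hn, d, hd, rfl⟩ := Subgroup.mem_sup_of_normal_right.1 hk
    exact ⟨⟨n, hn⟩, congrArg (n * ·) (U ⟨n, hn⟩ d hd e)⟩
  have ψS : ∀ n, ψ n ∈ N ⊔ C := fun n => mul_mem (Subgroup.mem_sup_left n.2) (Subgroup.mem_sup_right (hc n))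
  obtain ⟨T, _, m, hT, -, ⟨e⟩⟩ := S0721.result N N0 hmin
  have nT : ¬ IsMulCommutative T := fun k => hnab ⟨⟨fun a b => e.injective (by
    rw [map_mul, map_mul]
    exact funext fun i => k.is_comm.comm _ _)⟩⟩
  obtain ⟨s, hs, hβ⟩ := h.trans nN N0 α β
  have act : ∀ n : N, ψ n • β = ((n : G) * s * (n : G)⁻¹) • α := fun n => by
    show ((n : G) * c n) • β = _
    rw [← hβ, ← mul_smul, mul_assoc, ← cm s hs _ (hc n), ← mul_assoc, mul_smul, hcα, ← mul_smul]
  let χ : (Fin m → T) →* G := ψ.comp e.symm.toMonoidHom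
  refine h.diag (S := N ⊔ C) inferInstance ?_ nT
    (fun i => χ.comp (MonoidHom.mulSingle (fun _ : Fin m => T) i)) (fun i t => ⟨ψS _, fx _⟩) ?_ ?_ fun i => ?_
  · obtain ⟨n, n1⟩ := (Subgroup.ne_bot_iff_exists_ne_one).1 N0
    refine ⟨ψ n, ψS n, fun k => n1 (Subtype.ext (NC n n.2 ?_)), fx n⟩
    rw [eq_inv_of_mul_eq_one_left (show (n : G) * c n = 1 from k)]
    exact inv_mem (hc n)
  · intro i t k hk ek
    obtain ⟨n, rfl⟩ := rg k hk ek
    obtain ⟨x, rfl⟩ := e.symm.surjective n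
    refine ⟨x i * t * (x i)⁻¹, ?_⟩
    show χ (Pi.mulSingle i _) = χ x * χ (Pi.mulSingle i t) * (χ x)⁻¹
    rw [← map_inv, ← map_mul, ← map_mul]
    congr 1
    ext j
    by_cases k : j = i
    · subst k; simp
    · simp [k]
  · rintro k ⟨hk, ek⟩
    obtain ⟨n, rfl⟩ := rg k hk ek
    obtain ⟨x, rfl⟩ := e.symm.surjective n
    exact Subgroup.pi_mem_of_mulSingle_mem (H := Subgroup.comap χ _) x fun i =>
      Subgroup.mem_comap.2 (Subgroup.mem_iSup_of_mem i (MonoidHom.mem_range.2 ⟨x i, rfl⟩))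
  · by_cases k : e ⟨s, hs⟩ i = 1
    · refine Or.inl fun t => (act _).trans ?_
      have e1 : e.symm (Pi.mulSingle i t) * ⟨s, hs⟩ = ⟨s, hs⟩ * e.symm (Pi.mulSingle i t) := e.injective (by
        rw [map_mul, map_mul, e.apply_symm_apply]
        ext j
        by_cases k' : j = i
        · subst k'; simp [k]
        · simp [k'])
      exact (congrArg (· • α) (mul_inv_eq_iff_eq_mul.2 (congrArg Subtype.val e1))).trans hβ
    · refine Or.inr ⟨_, k, fun t ht => ?_⟩
      have e1 := (act _).symm.trans ht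
      set n : N := e.symm (Pi.mulSingle i t) with hn
      have e2 : s⁻¹ * ((n : G) * s * (n : G)⁻¹) = 1 :=
        sN _ (mul_mem (inv_mem hs) (mul_mem (mul_mem n.2 hs) (inv_mem n.2))) (by
          rw [mul_smul, inv_smul_eq_iff, hβ]
          exact e1)
      have e3 : n * ⟨s, hs⟩ = ⟨s, hs⟩ * n := Subtype.ext (mul_inv_eq_iff_eq_mul.1 (inv_mul_eq_one.1 e2).symm)
      have e4 := congrFun (congrArg e e3) i
      rw [map_mul, map_mul, hn, e.apply_symm_apply] at e4
      simpa using e4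

end Cfsg.Agent.DTR
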