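import Cfsg.Agent.DTR.Defs

set_option autoImplicit false
set_option linter.unusedSectionVars false

namespace Cfsg.Agent.DTR

open MulAction
open scoped commutatorElement

variable {G Ω : Type*} [Group G] [Finite G] [MulAction G Ω] [FaithfulSMul G Ω] [Finite Ω]
  {α β : Ω}

theorem ktr_conj {S : Subgroup G} (hS : S.Normal) (g : G) {a : Ω} {x : G} (hx : x ∈ S ⊓ stabilizer G a) :
    g * x * g⁻¹ ∈ S ⊓ stabilizer G (g • a) :=
  ⟨hS.conj_mem _ hx.1 g, by
    show (g * x * g⁻¹) • g • a = g • a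
    rw [mul_smul, inv_smul_smul, mul_smul, show x • a = a from hx.2]⟩

theorem ktr_card {S : Subgroup G} (hS : S.Normal) (g : G) (a : Ω) :
    Nat.card (S ⊓ stabilizer G a : Subgroup G) ≤ Nat.card (S ⊓ stabilizer G (g • a) : Subgroup G) :=
  Nat.card_le_card_of_injective (fun x => ⟨g * x * g⁻¹, ktr_conj hS g x.2⟩) fun x y e =>
    Subtype.ext (mul_left_cancel (mul_right_cancel (congrArg Subtype.val e)))

theorem Hyp.trans (h : Hyp G α β) {S : Subgroup G} (hS : S.Normal) (h1 : S ≠ ⊥) (a c : Ω) :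
    ∃ s ∈ S, s • a = c := by
  have := h.prim
  have t : IsPretransitive S Ω := IsQuasiPreprimitive.isPretransitive_of_normal fun e => h1 <| by
    refine eq_bot_iff.2 fun s hs => Subgroup.mem_bot.2 (eq_of_smul_eq_smul (α := Ω) fun x => ?_)
    rw [one_smul]
    exact (e.ge (Set.mem_univ x)) ⟨s, hs⟩
  obtain ⟨s, hs⟩ := t.exists_smul_eq a c
  exact ⟨s, s.2, hs⟩

/-- the stabiliser of `α` in a normal subgroup moves `β` -/
theorem Hyp.moves (h : Hyp G α β) {S : Subgroup G} (hS : S.Normal)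
    (h1 : ∃ s ∈ S, s ≠ 1 ∧ s • α = α) : ∃ k ∈ S, k • α = α ∧ k • β ≠ β := by
  by_contra n
  push Not at n
  have := h.prim
  have : Nontrivial Ω := ⟨⟨β, α, h.ne⟩⟩
  obtain ⟨g, hg⟩ := exists_smul_eq G β α
  obtain ⟨g', hg'⟩ := exists_smul_eq G α β
  have e : S ⊓ stabilizer G α = S ⊓ stabilizer G β :=
    Subgroup.eq_of_le_of_card_ge (fun x hx => ⟨hx.1, n x hx.1 hx.2⟩) (hg ▸ ktr_card hS g β)
  have nm : ∀ a : Ω, stabilizer G a ≤ Subgroup.normalizer ((S ⊓ stabilizer G a : Subgroup G) : Set G) :=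
    fun a k hk => Subgroup.mem_normalizer_fintype fun x hx => by
      have := ktr_conj hS k hx
      rwa [show k • a = a from hk] at this
  have nl : ¬ stabilizer G β ≤ stabilizer G α := fun le => by
    have e' : ⊤ ⊓ stabilizer G β = ⊤ ⊓ stabilizer G α :=
      Subgroup.eq_of_le_of_card_ge (inf_le_inf_left _ le) (hg' ▸ ktr_card inferInstance g' α)
    obtain ⟨k, k1, k2⟩ := h.big
    exact k2 (e'.ge ⟨Subgroup.mem_top k, k1⟩).2
  have top := (IsPreprimitive.isCoatom_stabilizer_of_isPreprimitive G α).2 _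
    (lt_of_le_of_ne (nm α) fun k => nl (by rw [k, e]; exact nm β))
  obtain ⟨s, s1, s2, s3⟩ := h1
  obtain ⟨x, x1, x2⟩ := h.trans (Subgroup.normalizer_eq_top_iff.1 top)
    (fun k => s2 (Subgroup.mem_bot.1 (k.le ⟨s1, s3⟩))) α β
  exact h.ne (x2.symm.trans x1.2)

/-- ... and is transitive on the suborbit -/
theorem Hyp.ktr (h : Hyp G α β) {S : Subgroup G} (hS : S.Normal)
    (h1 : ∃ s ∈ S, s ≠ 1 ∧ s • α = α) {γ : Ω} (hγ : Gam G α β γ) :
    ∃ k ∈ S, k • α = α ∧ k • β = γ := by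
  by_cases e : γ = β
  · exact ⟨1, one_mem _, one_smul _ _, by rw [one_smul, e]⟩
  obtain ⟨k, k1, k2, k3⟩ := h.moves hS h1
  have b : Gam G α β β := ⟨1, one_smul _ _, one_smul _ _⟩
  obtain ⟨g, g1, g2, g3⟩ := h.two β (k • β) β γ b ⟨k, k2, rfl⟩ b hγ k3.symm (Ne.symm e)
  refine ⟨g * k * g⁻¹, hS.conj_mem _ k1 g, ?_, ?_⟩
  · rw [mul_smul, mul_smul, inv_smul_eq_iff.2 g1.symm, k2, g1]
  · rw [mul_smul, mul_smul, inv_smul_eq_iff.2 g2.symm, g3]

end Cfsg.Agent.DTR
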