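import Cfsg.Agent.DTR.Cyc
import Cfsg.Agent.S3016
import Cfsg.Agent.H22.Core

set_option autoImplicit false
set_option linter.unusedSectionVars false

namespace Cfsg.Agent.DTR

open MulAction
open scoped commutatorElement

theorem Nec.of_map {H G : Type*} [Group H] [Group G] (f : H →* G) (hf : Function.Injective f) {x y : H}
    (h : (Subgroup.zpowers (f x) ⊔ Subgroup.zpowers (f y)) ⊓
      Subgroup.normalizer (Subgroup.zpowers (f x) : Set G) ≤ Subgroup.zpowers (f x)) :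
    (Subgroup.zpowers x ⊔ Subgroup.zpowers y) ⊓
      Subgroup.normalizer (Subgroup.zpowers x : Set H) ≤ Subgroup.zpowers x := by
  intro w hw
  rw [← f.map_zpowers, ← f.map_zpowers, ← Subgroup.map_sup] at h
  exact (Subgroup.mem_map_iff_mem hf).1 (h ⟨Subgroup.mem_map_of_mem f hw.1,
    Subgroup.le_normalizer_map f (Subgroup.mem_map_of_mem f hw.2)⟩)

variable {A Δ : Type*} [Group A] [Finite A] [MulAction A Δ] [FaithfulSMul A Δ] [Finite Δ]
  {T : Subgroup A}

theorem Nec.all (h : Ctx Δ T) {b : Δ} {x : A} (hx : Cen T b x) {t : A} (ht : t ∈ T) (hb : t • b ≠ b)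
    (hi : (Subgroup.zpowers x ⊔ Subgroup.zpowers (t * x * t⁻¹)) ⊓
      Subgroup.normalizer (Subgroup.zpowers x : Set A) ≤ Subgroup.zpowers x) {g : A} (hg : g ∈ T) :
    (Subgroup.zpowers x ⊔ Subgroup.zpowers (g * x * g⁻¹)) ⊓
      Subgroup.normalizer (Subgroup.zpowers x : Set A) ≤ Subgroup.zpowers x := by
  by_cases hgb : g • b = b
  · rw [hx.2.2 g hg hgb, mul_inv_cancel_right, sup_idem]
    exact inf_le_left
  obtain ⟨a, ha1, ha2⟩ := h.two' (Ne.symm hb) (Ne.symm hgb)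
  have c1 : Cen T b (a * x * a⁻¹) := by
    have := hx.conj h.nrm a
    rwa [ha1] at this
  have oc : ∀ u v : A, orderOf (u * v * u⁻¹) = orderOf v := fun u v =>
    (MulAut.conj u).orderOf_eq v
  have e1 : Subgroup.zpowers (a * x * a⁻¹) = Subgroup.zpowers x := h.cyc' hx c1 (oc a x)
  have c2 : Cen T (g • b) (a * (t * x * t⁻¹) * a⁻¹) := by
    have := (hx.conj h.nrm t).conj h.nrm a
    rwa [ha2] at this
  have e2 : Subgroup.zpowers (a * (t * x * t⁻¹) * a⁻¹) = Subgroup.zpowers (g * x * g⁻¹) :=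
    h.cyc' (hx.conj h.nrm g) c2 (by rw [oc, oc, oc])
  rw [← e2, ← e1]
  refine Nec.of_map (MulAut.conj a⁻¹).toMonoidHom (MulAut.conj a⁻¹).injective ?_
  have f1 : ∀ v : A, (MulAut.conj a⁻¹).toMonoidHom (a * v * a⁻¹) = v := fun v => by
    show a⁻¹ * (a * v * a⁻¹) * a⁻¹⁻¹ = v
    group
  rw [f1, f1]
  exact hi

/-- no pair is of "extremely closed" type -/
theorem Ctx.nec (h : Ctx Δ T) {b : Δ} {x : A} (hx : Cen T b x) (hp : (orderOf x).Prime)
    {t : A} (ht : t ∈ T) (hb : t • b ≠ b) :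
    ¬ (Subgroup.zpowers x ⊔ Subgroup.zpowers (t * x * t⁻¹)) ⊓
      Subgroup.normalizer (Subgroup.zpowers x : Set A) ≤ Subgroup.zpowers x := by
  intro hi
  have : Fact (orderOf x).Prime := ⟨hp⟩
  have := h.simple
  let y : T := ⟨x, hx.1⟩
  have oy : orderOf y = orderOf x := (Subgroup.orderOf_coe y).symm
  have hy1 : y ≠ 1 := by
    intro e
    rw [e, orderOf_one] at oy
    exact hp.one_lt.ne oy
  have hcl : Cfsg.IsExtremelyClosed (Subgroup.zpowers y) := by
    intro g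
    refine le_antisymm ?_ (le_inf le_sup_left Subgroup.le_normalizer)
    rw [MonoidHom.map_zpowers]
    exact Nec.of_map T.subtype T.subtype_injective (Nec.all h hx ht hb hi g.2)
  have hpg : IsPGroup (orderOf x) (Subgroup.zpowers y) :=
    IsPGroup.of_card (n := 1) (by rw [Nat.card_zpowers, oy, pow_one])
  obtain ⟨-, h2⟩ := S3016.result (h.ne_two hx) _ hpg inferInstance hcl
  have hO : Cfsg.pPrimeCore (orderOf x) T = ⊥ := by
    refine (IsSimpleGroup.eq_bot_or_eq_top_of_normal _ inferInstance).resolve_right fun e => ?_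
    have h3 := H22.coprime_card_pPrimeCore (G := T) (p := orderOf x)
    rw [e, Subgroup.card_top] at h3
    exact hp.one_lt.ne' (Nat.Coprime.eq_one_of_dvd h3.symm (oy ▸ orderOf_dvd_natCard y))
  rw [hO, sup_bot_eq, Subgroup.normalizer_eq_top_iff] at h2
  rcases IsSimpleGroup.eq_bot_or_eq_top_of_normal _ h2 with e | e
  · exact hy1 (Subgroup.zpowers_eq_bot.1 e)
  · refine h.nab ⟨⟨fun u v => ?_⟩⟩
    obtain ⟨m, rfl⟩ : u ∈ Subgroup.zpowers y := e ▸ Subgroup.mem_top u
    obtain ⟨n, rfl⟩ : v ∈ Subgroup.zpowers y := e ▸ Subgroup.mem_top v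
    exact zpow_mul_comm y m n

end Cfsg.Agent.DTR
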