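import Cfsg.Agent.DTR.Defs
import Cfsg.Agent.S0723

set_option autoImplicit false
set_option linter.unusedSectionVars false

namespace Cfsg.Agent.DTR

open MulAction
open scoped commutatorElement

variable {G Ω : Type*} [Group G] [Finite G] [MulAction G Ω] [FaithfulSMul G Ω] [Finite Ω]
  {α β : Ω}

theorem ons_max {K N X : Subgroup G} (hco : IsCoatom K)
    (hmin : ∀ M : Subgroup G, M.Normal → M ≤ N → M = ⊥ ∨ M = N) (hX : X ≤ N) (hKX : K ⊓ N ≤ X)
    (hinv : K ≤ Subgroup.normalizer (X : Set G)) : X = K ⊓ N ∨ X = N := by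
  by_cases hXK : X ≤ K
  · exact Or.inl (le_antisymm (le_inf hXK hX) hKX)
  · have htop : K ⊔ X = ⊤ := hco.2 _ (left_lt_sup.2 hXK)
    have hn : X.Normal := by
      rw [← Subgroup.normalizer_eq_top_iff, eq_top_iff, ← htop]
      exact sup_le hinv Subgroup.le_normalizer
    rcases hmin X hn hX with h | h
    · exact absurd (h ▸ bot_le) hXK
    · exact Or.inr h

open Subgroup in
/-- S0723 for an abstract faithful primitive action and any non-abelian minimal normal subgroup -/
theorem ons (hp : IsPreprimitive G Ω) {N : Subgroup G} (hN : MinN N) (hnab : ¬ IsMulCommutative N)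
    (a : Ω) : ∃ (T : Type) (_ : Group T) (m : ℕ) (e : N ≃* (Fin m → T)), IsSimpleGroup T ∧
      ¬ IsMulCommutative T ∧ 0 < m ∧
      ((∃ K : Fin m → Subgroup T, ∀ n : N, (n : G) • a = a ↔ ∀ i, e n i ∈ K i) ∨
       (∃ c : Fin m → Fin m, ∀ n : N, (n : G) • a = a ↔
          ∀ i j : Fin m, c i = c j → e n i = e n j)) := by
  obtain ⟨hNn, hN0, hmin⟩ := hN
  obtain ⟨T, _, m, hT, hm, ⟨e⟩⟩ := S0721.result N hN0 hmin
  have nc : ¬ IsMulCommutative T := fun h => hnab ⟨⟨fun x y => e.injective (by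
    rw [map_mul, map_mul]; ext i; exact h.1.1 _ _)⟩⟩
  have : Finite T := Finite.of_injective (fun t => e.symm fun _ => t) fun s t h =>
    congrFun (e.symm.injective h) ⟨0, hm⟩
  have : Nontrivial Ω := by
    by_contra! h
    exact hN0 (eq_bot_iff.2 fun n _ => mem_bot.2
      (eq_of_smul_eq_smul (α := Ω) fun b => Subsingleton.elim _ _))
  have hco := MulAction.IsPreprimitive.isCoatom_stabilizer_of_isPreprimitive G a
  set K := MulAction.stabilizer G a
  have nK : ¬ N ≤ K := fun h => hN0 (eq_bot_iff.2 fun n hn => mem_bot.2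
    (eq_of_smul_eq_smul (α := Ω) fun b => by
      obtain ⟨g, rfl⟩ := MulAction.exists_smul_eq G a b
      have : (g⁻¹ * n * g⁻¹⁻¹) • a = a := h (hNn.conj_mem n hn g⁻¹)
      rw [inv_inv, mul_smul, mul_smul, inv_smul_eq_iff] at this
      rw [one_smul]
      exact this))
  let ι : (Fin m → T) →* G := N.subtype.comp e.symm.toMonoidHom
  have ιi : Function.Injective ι := N.subtype_injective.comp e.symm.injective
  have ιr : ∀ X : Subgroup (Fin m → T), X.map ι ≤ N := fun X => by
    rintro _ ⟨x, -, rfl⟩; exact (e.symm x).2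
  have ιt : (⊤ : Subgroup (Fin m → T)).map ι = N :=
    (ιr _).antisymm fun n hn => ⟨e ⟨n, hn⟩, trivial, by simp [ι]⟩
  let ψ : G → (Fin m → T) ≃* (Fin m → T) := fun h => e.symm.trans ((MulAut.conjNormal h).trans e)
  have hψ : ∀ h x, ι (ψ h x) = h * ι x * h⁻¹ := fun h x => by simp [ι, ψ]
  have inv : ∀ X : Subgroup (Fin m → T), (∀ φ ∈ ψ '' K, ∀ x ∈ X, φ x ∈ X) →
      K ≤ normalizer (X.map ι : Set G) := fun X hX k hk => mem_normalizer_fintype (by
    rintro _ ⟨x, hx, rfl⟩
    exact ⟨_, hX _ ⟨k, hk, rfl⟩ x hx, hψ k x⟩)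
  have hD : (K.comap ι).map ι = K ⊓ N := by rw [map_comap_eq, MonoidHom.range_eq_map, ιt, inf_comm]
  have := S0723.core nc hm (ψ '' K) (K.comap ι)
    (fun h => nK (by rw [← ιt, ← h]; exact map_comap_le _ _))
    (by
      rintro _ ⟨k, hk, rfl⟩ x
      rw [mem_comap, mem_comap, hψ]
      exact (K.mul_mem_cancel_right (inv_mem hk)).trans (K.mul_mem_cancel_left hk))
    (fun M hM h => by
      have : (M.map ι).Normal := by
        rw [← normalizer_eq_top_iff, eq_top_iff, ← hco.2 (K ⊔ N) (left_lt_sup.2 nK)]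
        refine sup_le (inv M h) ?_
        rw [← ιt]
        exact (map_mono (normalizer_eq_top M).ge).trans (le_normalizer_map ι)
      refine (hmin _ this (ιr M)).imp (fun f => map_injective ιi (by rw [f, Subgroup.map_bot]))
        fun f => map_injective ιi (f.trans ιt.symm))
    fun X h1 h2 => (ons_max hco hmin (ιr X) (hD ▸ map_mono h1) (inv X h2)).imp
      (fun f => map_injective ιi (f.trans hD.symm)) fun f => map_injective ιi (f.trans ιt.symm)
  have mem : ∀ n : N, (n : G) ∈ K ↔ e n ∈ K.comap ι := fun n => by simp [ι]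
  rcases this with ⟨P, -, h2⟩ | ⟨γ, k, c, -, -, h3⟩
  · exact ⟨T, _, m, e, hT, nc, hm, .inl ⟨P, fun n => (mem n).trans (h2 _)⟩⟩
  · exact ⟨T, _, m, e.trans (MulEquiv.piCongrRight γ), hT, nc, hm,
      .inr ⟨c, fun n => (mem n).trans (h3 _)⟩⟩

end Cfsg.Agent.DTR
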