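import Cfsg.Agent.DTR.Ktr
import Cfsg.Agent.S0723

set_option autoImplicit false
set_option linter.unusedSectionVars false

namespace Cfsg.Agent.DTR

open MulAction
open scoped commutatorElement

variable {G Ω : Type*} [Group G] [Finite G] [MulAction G Ω] [FaithfulSMul G Ω] [Finite Ω]
  {α β : Ω}

theorem PA.tau {T : Type} [Group T] [IsSimpleGroup T] (hT : ¬ IsMulCommutative T) {m : ℕ}
    (ψ : (Fin m → T) ≃* (Fin m → T)) :
    ∃ τ : Fin m → Fin m, Function.Injective τ ∧ ∀ x i, ψ x i = 1 ↔ x (τ i) = 1 := by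
  have k : ∀ i, ∃ j, ∀ x, ψ x i = 1 ↔ x j = 1 := fun i =>
    S0723.exists_tau hT ((Pi.evalMonoidHom (fun _ => T) i).comp ψ.toMonoidHom)
      ((Function.surjective_eval i).comp ψ.surjective)
  choose τ hτ using k
  refine ⟨τ, fun i j e => by_contra fun n => ?_, fun x i => hτ i x⟩
  obtain ⟨t, ht⟩ := exists_ne (1 : T)
  have a := hτ i (ψ.symm (Pi.mulSingle i t))
  have b := hτ j (ψ.symm (Pi.mulSingle i t))
  rw [ψ.apply_symm_apply] at a b
  rw [Pi.mulSingle_eq_same, e] at a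
  rw [Pi.mulSingle_eq_of_ne (Ne.symm n)] at b
  exact ht (a.2 (b.1 rfl))

/-- product type is impossible -/
theorem Hyp.pa (h : Hyp G α β) {N : Subgroup G} (hN : MinN N) {T : Type} [Group T]
    [IsSimpleGroup T] (hT : ¬ IsMulCommutative T) {m : ℕ} (hm : 2 ≤ m) (e : N ≃* (Fin m → T))
    (K : Fin m → Subgroup T) (hK : ∀ n : N, (n : G) • α = α ↔ ∀ i, e n i ∈ K i)
    (h1 : ∃ s ∈ N, s ≠ 1 ∧ s • α = α) : False := by
  classical
  have nN := hN.1
  obtain ⟨s, hs, hβ⟩ := h.trans nN hN.2.1 α β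
  let K' : Fin m → Subgroup T := fun i => (K i).comap (MulAut.conj (e ⟨s, hs⟩ i)⁻¹).toMonoidHom
  have hK' : ∀ n : N, (n : G) • β = β ↔ ∀ i, e n i ∈ K' i := fun n => by
    have a := hK ((⟨s, hs⟩ : N)⁻¹ * n * (⟨s, hs⟩ : N)⁻¹⁻¹)
    rw [map_mul, map_mul, map_inv, map_inv, map_inv] at a
    refine Iff.trans ?_ a
    rw [inv_inv, Subgroup.coe_mul, Subgroup.coe_mul, mul_smul, mul_smul, Subgroup.coe_inv, inv_smul_eq_iff, hβ]
  have hτ : ∀ g : G, ∃ τ : Fin m → Fin m, Function.Injective τ ∧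
      ∀ (n : N) i, e (MulAut.conjNormal g n) i = 1 ↔ e n (τ i) = 1 := fun g => by
    obtain ⟨τ, a, b⟩ := PA.tau hT (e.symm.trans ((MulAut.conjNormal g).trans e))
    refine ⟨τ, a, fun n i => ?_⟩
    have := b (e n) i
    rwa [MulEquiv.trans_apply, e.symm_apply_apply] at this
  choose τ τi hτ using hτ
  have sg : ∀ (L : Fin m → Subgroup T) (i : Fin m) (t : T),
      (∀ j, e (e.symm (Pi.mulSingle i t)) j ∈ L j) ↔ t ∈ L i := fun L i t => by
    rw [e.apply_symm_apply]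
    refine ⟨fun a => by simpa using a i, fun a j => ?_⟩
    rcases eq_or_ne j i with rfl | n
    · rwa [Pi.mulSingle_eq_same]
    · rw [Pi.mulSingle_eq_of_ne n]
      exact one_mem _
  have sup : ∀ (g : G) (i : Fin m) (t : T) (j : Fin m), j ≠ i →
      e (MulAut.conjNormal g (e.symm (Pi.mulSingle (τ g i) t))) j = 1 := fun g i t j n => by
    rw [hτ, e.apply_symm_apply, Pi.mulSingle_eq_of_ne ((τi g).ne n)]
  let I : Set (Fin m) := {i | ∃ t ∈ K i, t ∉ K' i}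
  have inv : ∀ g : G, g • α = α → ∀ i, τ g i ∈ I → i ∈ I := by
    rintro g hg i ⟨t, t1, t2⟩
    obtain ⟨k, hk, k1, k2⟩ := h.ktr nN h1 ⟨g, hg, rfl⟩
    have a1 := (hK _).2 ((sg K _ t).2 t1)
    have a2 := mt (hK' _).1 (mt (sg K' _ t).1 t2)
    have a3 := sup g i t
    generalize e.symm (Pi.mulSingle (τ g i) t) = x at a1 a2 a3
    have b : (((⟨k, hk⟩ : N)⁻¹ * MulAut.conjNormal g x * ⟨k, hk⟩ : N) : G) = k⁻¹ * (g * x * g⁻¹) * k := by
      rw [Subgroup.coe_mul, Subgroup.coe_mul, MulAut.conjNormal_apply]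
      rfl
    refine ⟨_, (hK ((⟨k, hk⟩ : N)⁻¹ * MulAut.conjNormal g x * ⟨k, hk⟩)).1 ?_ i, fun c => a2 ?_⟩
    · rw [b]
      simp only [mul_smul, k1, inv_smul_eq_iff.2 hg.symm, a1, hg, inv_smul_eq_iff.2 k1.symm]
    · have d := (hK' ((⟨k, hk⟩ : N)⁻¹ * MulAut.conjNormal g x * ⟨k, hk⟩)).2 fun j => by
        rcases eq_or_ne j i with rfl | n
        · exact c
        · rw [map_mul, map_mul, map_inv, Pi.mul_apply, Pi.mul_apply, a3 j n, mul_one, Pi.inv_apply, inv_mul_cancel]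
          exact one_mem _
      rw [b, mul_smul, mul_smul, inv_smul_eq_iff, k2, mul_smul, mul_smul, inv_smul_smul] at d
      exact smul_left_cancel g d
  let M : Subgroup G := ((Subgroup.pi Iᶜ ⊥).comap e.toMonoidHom).map N.subtype
  have mM : ∀ n : N, (n : G) ∈ M ↔ ∀ j, j ∉ I → e n j = 1 := fun n =>
    (Subgroup.mem_map_iff_mem N.subtype_injective).trans Iff.rfl
  have nM : M.Normal := ⟨by
    rintro _ ⟨x, hx, rfl⟩ g
    obtain ⟨n, hn, a⟩ := h.trans nN hN.2.1 α (g • α)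
    have b : (n⁻¹ * g) • α = α := by rw [mul_smul, inv_smul_eq_iff, a]
    have c : (((⟨n, hn⟩ : N) * MulAut.conjNormal (n⁻¹ * g) x * (⟨n, hn⟩ : N)⁻¹ : N) : G) = g * x * g⁻¹ := by
      rw [Subgroup.coe_mul, Subgroup.coe_mul, MulAut.conjNormal_apply, Subgroup.coe_inv]
      group
    refine c ▸ (mM _).2 fun j hj => ?_
    rw [map_mul, map_mul, map_inv, Pi.mul_apply, Pi.mul_apply, (hτ _ _ _).2 (hx _ (mt (inv _ b j) hj)), mul_one,
      Pi.inv_apply, mul_inv_cancel]⟩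
  have all : ∀ j, j ∈ I := fun j => by_contra fun hj => by
    rcases hN.2.2 M nM (Subgroup.map_subtype_le _) with c | c
    · obtain ⟨k, hk, k1, k2⟩ := h.moves nN h1
      obtain ⟨i, hi⟩ := not_forall.1 (mt (hK' ⟨k, hk⟩).2 k2)
      have a : ((e.symm (Pi.mulSingle i (e ⟨k, hk⟩ i)) : N) : G) ∈ M := (mM _).2 fun l hl => by
        rw [e.apply_symm_apply, Pi.mulSingle_eq_of_ne]
        rintro rfl
        exact hl ⟨_, (hK ⟨k, hk⟩).1 k1 l, hi⟩
      rw [c, Subgroup.mem_bot] at a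
      exact hi ((sg K' _ _).1 ((hK' _).1 (by rw [a, one_smul])))
    · obtain ⟨t, ht⟩ := exists_ne (1 : T)
      have a := (mM (e.symm (Pi.mulSingle j t))).1 (c.ge (Subtype.mem _)) j hj
      rw [e.apply_symm_apply, Pi.mulSingle_eq_same] at a
      exact ht a
  obtain ⟨i, j, ij⟩ : ∃ i j : Fin m, i ≠ j := ⟨⟨0, by omega⟩, ⟨1, by omega⟩, by simp⟩
  obtain ⟨t, t1, t2⟩ := all i
  obtain ⟨u, u1, u2⟩ := all j
  have a1 := (hK _).2 ((sg K _ t).2 t1)
  have a2 := mt (hK' _).1 (mt (sg K' _ t).1 t2)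
  have b1 := (hK _).2 ((sg K _ u).2 u1)
  have ci : e (e.symm (Pi.mulSingle i t) * e.symm (Pi.mulSingle j u)) i = t := by
    rw [map_mul, e.apply_symm_apply, e.apply_symm_apply, Pi.mul_apply, Pi.mulSingle_eq_same,
      Pi.mulSingle_eq_of_ne ij, mul_one]
  have cj : e (e.symm (Pi.mulSingle i t) * e.symm (Pi.mulSingle j u)) j = u := by
    rw [map_mul, e.apply_symm_apply, e.apply_symm_apply, Pi.mul_apply, Pi.mulSingle_eq_same,
      Pi.mulSingle_eq_of_ne ij.symm, one_mul]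
  have b2 : ((e.symm (Pi.mulSingle i t) * e.symm (Pi.mulSingle j u) : N) : G) • β ≠ β := fun c =>
    t2 (ci ▸ (hK' _).1 c i)
  obtain ⟨g, g1, g2, g3⟩ := h.two β _ β _ ⟨1, one_smul _ _, one_smul _ _⟩ ⟨_, a1, rfl⟩ ⟨1, one_smul _ _, one_smul _ _⟩
    ⟨_, by rw [Subgroup.coe_mul, mul_smul, b1, a1], rfl⟩ (Ne.symm a2) (Ne.symm b2)
  obtain ⟨l, rfl⟩ := Finite.injective_iff_surjective.1 (τi g) i
  have a3 := sup g l t
  have d := (hK' ((MulAut.conjNormal g (e.symm (Pi.mulSingle (τ g l) t)))⁻¹ *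
      (e.symm (Pi.mulSingle (τ g l) t) * e.symm (Pi.mulSingle j u)))).1 (by
    rw [Subgroup.coe_mul, mul_smul, Subgroup.coe_inv, inv_smul_eq_iff, MulAut.conjNormal_apply, mul_smul, mul_smul,
      inv_smul_eq_iff.2 g2.symm, g3])
  rcases eq_or_ne j l with rfl | n
  · have := d (τ g j)
    rw [map_mul, map_inv, Pi.mul_apply, Pi.inv_apply, a3 _ ij, inv_one, one_mul, ci] at this
    exact t2 this
  · have := d j
    rw [map_mul, map_inv, Pi.mul_apply, Pi.inv_apply, a3 _ n, inv_one, one_mul, cj] at this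
    exact u2 this

end Cfsg.Agent.DTR
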