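import Cfsg.Agent.DTR.Frob
import Cfsg.Agent.Q4.KFix

set_option autoImplicit false
set_option linter.unusedSectionVars false

namespace Cfsg.Agent.DTR

open MulAction
open scoped commutatorElement

variable {A Δ : Type*} [Group A] [Finite A] [MulAction A Δ] [FaithfulSMul A Δ] [Finite Δ]
  {T : Subgroup A}

namespace Pair

open Subgroup

theorem powq {C : Type*} [Group C] [Finite C] {q : ℕ} (hq : q.Prime) (h : ∀ g : C, g ^ q ∈ center C) :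
    ∃ n, ∀ g k : C, (g * k) ^ q ^ (n + 1) = g ^ q ^ (n + 1) * k ^ q ^ (n + 1) := by
  have : Fact q.Prime := ⟨hq⟩
  obtain ⟨n, hn⟩ := (IsPGroup.iff_card (p := q) (G := C ⧸ center C)).1 fun g => ⟨1, by
    obtain ⟨g, rfl⟩ := QuotientGroup.mk_surjective g
    rw [pow_one, ← QuotientGroup.mk_pow, QuotientGroup.eq_one_iff]
    exact h g⟩
  refine ⟨n, fun g k => ?_⟩
  have e := congrArg Subtype.val ((MonoidHom.transferCenterPow C).map_mul g k)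
  have c : Commute (g ^ q ^ n) (k ^ q ^ n) := mem_center_iff.1 (hn ▸ (center C).pow_index_mem k) _
  change (g * k) ^ Nat.card _ = g ^ Nat.card _ * k ^ Nat.card _ at e
  rw [hn] at e
  rw [pow_succ, pow_mul, pow_mul, pow_mul, e, c.mul_pow]

theorem same {b : Δ} {x t k : A} (hx : Cen T b x) (ht : t ∈ T) (hk : k ∈ T) (e : t • b = k • b) :
    t * x * t⁻¹ = k * x * k⁻¹ := by
  have := hx.2.2 (k⁻¹ * t) (mul_mem (inv_mem hk) ht) (by rw [mul_smul, e, inv_smul_smul])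
  calc _ = k * (k⁻¹ * t * x) * t⁻¹ := by group
    _ = _ := by rw [this]; group

theorem core (h : Ctx Δ T) {b c : Δ} (hbc : b ≠ c) {q : ℕ} {K : Subgroup A} (hq : q.Prime)
    (hK : ∀ g, g ∈ K ↔ g ∈ T ∧ g ∈ normalizer (J T b c : Set A) ∧ (g ∈ J T b c ∨ ∀ d ∈ F T b c, g • d ≠ d))
    (tr : ∀ d ∈ F T b c, ∃ k ∈ K, k • b = d) (pw : ∀ k ∈ K, k ^ q ∈ J T b c) {x : A} (hx : Cen T b x)
    (hp : (orderOf x).Prime) : q ≠ orderOf x ∧ ∀ t ∈ T, t • b = c → ∃ Q : Subgroup A, Q ≤ T ∧ IsPGroup q Q ∧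
      x ∈ normalizer (Q : Set A) ∧ x⁻¹ * (t * x * t⁻¹) ∈ Q := by
  classical
  have := Fintype.ofFinite Δ
  have x1 : x ≠ 1 := fun e => Nat.not_prime_one (by rwa [e, orderOf_one] at hp)
  have bF : b ∈ F T b c := fun j hj => (mem_J.1 hj).2.1
  have cF : ∀ g ∈ centralizer (J T b c : Set A), ∀ d ∈ F T b c, g • d ∈ F T b c := fun g hg d hd j hj => by
    rw [← mul_smul, hg j hj, mul_smul, hd j hj]
  have xJ : x ∈ centralizer (J T b c : Set A) := fun j hj => hx.2.2 j (mem_J.1 hj).1 (mem_J.1 hj).2.1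
  have KT : K ≤ T := fun g hg => ((hK g).1 hg).1
  have nK : ∀ g ∈ T, g ∈ centralizer (J T b c : Set A) → ∀ k ∈ K, g * k * g⁻¹ ∈ K := fun g hg gJ k hk => by
    obtain ⟨k1, k2, k3⟩ := (hK k).1 hk
    have n := centralizer_le_normalizer _ gJ
    refine (hK _).2 ⟨h.nrm.conj_mem _ k1 g, mul_mem (mul_mem n k2) (inv_mem n), k3.imp (fun e => ?_) fun e d hd e' => ?_⟩
    · rwa [← gJ k e, mul_inv_cancel_right]
    · exact e _ (cF _ (inv_mem gJ) d hd) (by rwa [mul_smul, mul_smul, smul_eq_iff_eq_inv_smul] at e')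
  obtain ⟨C, hC⟩ : ∃ C, C = K ⊓ centralizer (J T b c : Set A) := ⟨_, rfl⟩
  have mC : ∀ {g}, g ∈ C ↔ g ∈ K ∧ g ∈ centralizer (J T b c : Set A) := by rw [hC]; exact Iff.rfl
  have nC : ∀ g, g = x ∨ g = x⁻¹ → ∀ u ∈ C, g * u * g⁻¹ ∈ C := fun g hg u hu => by
    have e : g ∈ T ∧ g ∈ centralizer (J T b c : Set A) := by
      rcases hg with rfl | rfl
      exacts [⟨hx.1, xJ⟩, ⟨inv_mem hx.1, inv_mem xJ⟩]
    exact mC.2 ⟨nK g e.1 e.2 u (mC.1 hu).1, mul_mem (mul_mem e.2 (mC.1 hu).2) (inv_mem e.2)⟩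
  obtain ⟨k, hk, kb⟩ := tr c fun j hj => (mem_J.1 hj).2.2
  have hy : Cen T c (k * x * k⁻¹) := kb ▸ hx.conj h.nrm k
  have wC : x⁻¹ * (k * x * k⁻¹) ∈ C := mC.2 ⟨by
    simpa only [inv_inv, mul_assoc] using mul_mem (nK _ (inv_mem hx.1) (inv_mem xJ) k hk) (inv_mem hk),
    mul_mem (inv_mem xJ) fun j hj => hy.2.2 j (mem_J.1 hj).1 (mem_J.1 hj).2.2⟩
  obtain ⟨O, hO⟩ : ∃ O : Set Δ, ∀ d, d ∈ O ↔ ∃ u ∈ C, u • b = d := ⟨{d | _}, fun _ => Iff.rfl⟩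
  have CO : ∀ u ∈ C, ∀ d ∈ O, u • d ∈ O := fun u hu d hd =>
    let ⟨v, hv, e⟩ := (hO d).1 hd
    (hO _).2 ⟨u * v, mul_mem hu hv, by rw [mul_smul, e]⟩
  have xO : ∀ d ∈ O, x • d ∈ O := fun d hd =>
    let ⟨v, hv, e⟩ := (hO d).1 hd
    (hO _).2 ⟨_, nC x (.inl rfl) v hv, by rw [mul_smul, hx.inv.2.1, mul_smul, e]⟩
  have OF : ∀ d ∈ O, d ∈ F T b c := fun d hd =>
    let ⟨v, hv, e⟩ := (hO d).1 hd
    e ▸ cF v (mC.1 hv).2 b bF
  have m1 := Q4.fx_mod (i := 1) hp xO fun d _ => by rw [pow_one, pow_orderOf_eq_one, one_smul]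
  rw [show O ∩ Q4.fx Δ x = {b} from Set.eq_singleton_iff_unique_mem.2
    ⟨⟨(hO b).2 ⟨1, one_mem _, one_smul _ _⟩, hx.2.1⟩, fun d hd => h.fix hx x1 hd.2⟩, Set.ncard_singleton] at m1
  have nd : ¬ orderOf x ∣ O.ncard := fun e => hp.one_lt.ne' (Nat.dvd_one.1 ((m1.dvd_iff dvd_rfl).2 e))
  have m2 := Q4.fx_mod (i := 1) (g := k * x * k⁻¹) (Γ := O) hp
    (fun d hd => by simpa only [← mul_smul, mul_inv_cancel_left] using xO _ (CO _ wC d hd))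
    fun d _ => by rw [pow_one, conj_pow, pow_orderOf_eq_one, mul_one, mul_inv_cancel, one_smul]
  obtain ⟨d, hd, e⟩ : (O ∩ Q4.fx Δ (k * x * k⁻¹)).Nonempty := Set.nonempty_of_ncard_ne_zero fun e =>
    nd ((m2.dvd_iff dvd_rfl).1 (e ▸ dvd_zero _))
  obtain rfl : d = c := h.fix hy (by simpa using x1) e
  obtain ⟨u, hu, ub⟩ := (hO d).1 hd
  refine ⟨fun e => nd (e ▸ ?_), fun t ht tb => ?_⟩
  · have m3 := Q4.fx_mod (i := 1) hq (CO u hu) fun d' hd' => by rw [pow_one, OF d' hd' _ (pw u (mC.1 hu).1)]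
    rw [show O ∩ Q4.fx Δ u = ∅ from Set.eq_empty_of_forall_notMem fun d' hd' =>
      ((hK u).1 (mC.1 hu).1).2.2.elim (fun e => hbc ((mem_J.1 e).2.1.symm.trans ub)) fun e => e d' (OF d' hd'.1) hd'.2,
      Set.ncard_empty] at m3
    exact (m3.dvd_iff dvd_rfl).1 (dvd_zero _)
  obtain ⟨n, hn⟩ := powq (C := C) hq fun g => mem_center_iff.2 fun v =>
    Subtype.ext ((mC.1 v.2).2 _ (pw g (mC.1 g.2).1)).symm
  have hn' : ∀ g ∈ C, ∀ k ∈ C, (g * k) ^ q ^ (n + 1) = g ^ q ^ (n + 1) * k ^ q ^ (n + 1) := fun g hg k hk =>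
    congrArg Subtype.val (hn ⟨g, hg⟩ ⟨k, hk⟩)
  let Q : Subgroup A :=
    { carrier := {g | g ∈ C ∧ g ^ q ^ (n + 1) = 1}
      one_mem' := ⟨one_mem _, one_pow _⟩
      mul_mem' := fun {g k} hg hk => ⟨mul_mem hg.1 hk.1, by rw [hn' g hg.1 k hk.1, hg.2, hk.2, mul_one]⟩
      inv_mem' := fun {g} hg => ⟨inv_mem hg.1, by rw [inv_pow, hg.2, inv_one]⟩ }
  refine ⟨Q, fun g hg => KT (mC.1 hg.1).1, fun g => ⟨n + 1, Subtype.ext g.2.2⟩,
    mem_normalizer_fintype fun g hg => ⟨nC x (.inl rfl) g hg.1, by rw [conj_pow, hg.2, mul_one, mul_inv_cancel]⟩, ?_⟩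
  have e1 := nC x⁻¹ (.inr rfl) u hu
  rw [same hx ht (KT (mC.1 hu).1) (tb.trans ub.symm), show x⁻¹ * (u * x * u⁻¹) = x⁻¹ * u * x⁻¹⁻¹ * u⁻¹ by group]
  refine ⟨mul_mem e1 (inv_mem hu), ?_⟩
  rw [hn' _ e1 _ (inv_mem hu), conj_pow, inv_pow, pow_succ', pow_mul,
    ← inv_mem xJ _ (pow_mem (pw u (mC.1 hu).1) _), mul_inv_cancel_right, mul_inv_cancel]

end Pair

/-- one prime `q` for all central elements of prime order and all conjugates -/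
theorem Ctx.pair (h : Ctx Δ T) (b : Δ) : ∃ q : ℕ, q.Prime ∧ ∀ x : A, Cen T b x →
    (orderOf x).Prime → q ≠ orderOf x ∧ ∀ t ∈ T, ∃ Q : Subgroup A, Q ≤ T ∧ IsPGroup q Q ∧
      x ∈ Subgroup.normalizer (Q : Set A) ∧ x⁻¹ * (t * x * t⁻¹) ∈ Q := by
  by_cases H : ∀ x : A, Cen T b x → x = 1
  · exact ⟨2, Nat.prime_two, fun x hx hp => (Nat.not_prime_one (by rwa [H x hx, orderOf_one] at hp)).elim⟩
  push Not at H
  obtain ⟨x₀, hx₀, h1⟩ := H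
  obtain ⟨c, hc⟩ : ∃ c, b ≠ c := not_forall.1 fun e =>
    h1 (eq_of_smul_eq_smul fun d : Δ => by rw [← e d, hx₀.2.1, one_smul])
  obtain ⟨q, K, hq, hK, tr, pw⟩ := h.frob hc hx₀ h1
  refine ⟨q, hq, fun x hx hp => ⟨(Pair.core h hc hq hK tr pw hx hp).1, fun t ht => ?_⟩⟩
  by_cases tb : b = t • b
  · refine ⟨⊥, bot_le, IsPGroup.of_bot, Subgroup.normalizer_eq_top (⊥ : Subgroup A) ▸ Subgroup.mem_top x, ?_⟩
    rw [hx.2.2 t ht tb.symm, mul_inv_cancel_right, inv_mul_cancel]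
    exact one_mem _
  obtain ⟨a, ab, ac⟩ := h.two' hc tb
  have ab' : a⁻¹ • b = b := inv_smul_eq_iff.2 ab.symm
  have hx' := hx.conj h.nrm a⁻¹
  rw [ab'] at hx'
  obtain ⟨Q, h1, h2, h3, h4⟩ := (Pair.core h hc hq hK tr pw hx' ((MulAut.conj a⁻¹).orderOf_eq x ▸ hp :)).2 _
    (h.nrm.conj_mem t ht a⁻¹) (by rw [inv_inv, mul_smul, ab, mul_smul, ← ac, inv_smul_smul])
  refine ⟨Q.map (MulAut.conj a).toMonoidHom, ?_, h2.map _, Subgroup.le_normalizer_map _ ⟨_, h3, ?_⟩, _, h4, ?_⟩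
  · rintro _ ⟨g, hg, rfl⟩
    exact h.nrm.conj_mem g (h1 hg) a
  · simp [mul_assoc]
  · simp [mul_assoc]

end Cfsg.Agent.DTR
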