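import Cfsg.Agent.DTR.Diag

/-! Project DTR: the diagonal type is impossible. -/

set_option autoImplicit false
set_option linter.unusedSectionVars false

namespace Cfsg.Agent.DTR

open MulAction
open scoped commutatorElement

variable {G Ω : Type*} [Group G] [Finite G] [MulAction G Ω] [FaithfulSMul G Ω] [Finite Ω]
  {α β : Ω}

/-- the function with value `t` on the block `j` and `1` elsewhere -/
def sdBlk {T : Type} [Group T] {m : ℕ} (c : Fin m → Fin m) (j : Fin m) : T →* (Fin m → T) where
  toFun t i := if c i = j then t else 1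
  map_one' := funext fun i => by simp
  map_mul' a b := funext fun i => by by_cases e : c i = j <;> simp [e]

theorem sdBlk_apply {T : Type} [Group T] {m : ℕ} (c : Fin m → Fin m) (j : Fin m) (t : T) (i : Fin m) :
    sdBlk c j t i = if c i = j then t else 1 := rfl

/-- diagonal type is impossible -/
theorem Hyp.sd (h : Hyp G α β) {N : Subgroup G} (hN : MinN N) {T : Type} [Group T]
    [IsSimpleGroup T] (hT : ¬ IsMulCommutative T) {m : ℕ} (hm : 0 < m) (e : N ≃* (Fin m → T))
    (c : Fin m → Fin m)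
    (hK : ∀ n : N, (n : G) • α = α ↔ ∀ i j : Fin m, c i = c j → e n i = e n j) : False := by
  classical
  let φ : Fin m → T →* G := fun j => N.subtype.comp (e.symm.toMonoidHom.comp (sdBlk c j))
  have hφ : ∀ j t, φ j t = (e.symm (sdBlk c j t) : N) := fun _ _ => rfl
  obtain ⟨s, hs, hβ⟩ := h.trans hN.1 hN.2.1 α β
  have key : ∀ n : N, (n : G) • β = β ↔ ∀ i j : Fin m, c i = c j →
      (e ⟨s, hs⟩ i)⁻¹ * e n i * e ⟨s, hs⟩ i = (e ⟨s, hs⟩ j)⁻¹ * e n j * e ⟨s, hs⟩ j := fun n => by
    have := hK ((⟨s, hs⟩ : N)⁻¹ * n * ⟨s, hs⟩)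
    simp only [map_mul, map_inv, Pi.mul_apply, Pi.inv_apply] at this
    rw [← this, ← hβ]
    simp only [Subgroup.coe_mul, Subgroup.coe_inv, mul_smul, inv_smul_eq_iff]
  refine h.diag hN.1 ?_ hT φ (fun j t => ⟨(e.symm _).2, ?_⟩) (fun j t k hk ka => ?_) ?_ fun j => ?_
  · obtain ⟨t, ht⟩ := exists_ne (1 : T)
    refine ⟨_, (e.symm fun _ => t).2, fun a => ht ?_, (hK _).2 fun i j _ => by simp⟩
    have : e.symm (fun _ => t) = 1 := Subtype.ext a
    exact congrFun (e.symm.map_eq_one_iff.1 this) ⟨0, hm⟩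
  · rw [hφ, hK]
    intro i i' a
    simp only [MulEquiv.apply_symm_apply, sdBlk_apply, a]
  · have kc := (hK ⟨k, hk⟩).1 ka
    have : ∃ t', sdBlk c j t' = e ⟨k, hk⟩ * sdBlk c j t * (e ⟨k, hk⟩)⁻¹ := by
      by_cases a : ∃ i, c i = j
      · obtain ⟨i, hi⟩ := a
        refine ⟨e ⟨k, hk⟩ i * t * (e ⟨k, hk⟩ i)⁻¹, funext fun l => ?_⟩
        by_cases b : c l = j
        · simp [sdBlk_apply, b, kc l i (b.trans hi.symm)]
        · simp [sdBlk_apply, b]
      · refine ⟨1, funext fun l => ?_⟩
        have b : ¬ c l = j := fun b => a ⟨l, b⟩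
        simp [sdBlk_apply, b]
    obtain ⟨t', ht'⟩ := this
    refine ⟨t', ?_⟩
    rw [hφ, hφ, ht']
    simp
  · have ind : ∀ (F : Finset (Fin m)) (f : Fin m → T), (∀ i j, c i = c j → f i = f j) →
        (∀ i, c i ∉ F → f i = 1) → ((e.symm f : N) : G) ∈ ⨆ i, (φ i).range := by
      intro F
      induction F using Finset.induction_on with
      | empty =>
        intro f _ f1
        rw [show f = 1 from funext fun i => f1 i (Finset.notMem_empty _), map_one]
        exact one_mem _
      | insert j F _ ih =>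
        intro f fc f1
        have : ∃ t, f = sdBlk c j t * fun i => if c i = j then 1 else f i := by
          by_cases a : ∃ i, c i = j
          · obtain ⟨i, hi⟩ := a
            refine ⟨f i, funext fun l => ?_⟩
            by_cases b : c l = j
            · simp [sdBlk_apply, b, fc l i (b.trans hi.symm)]
            · simp [sdBlk_apply, b]
          · refine ⟨1, funext fun l => ?_⟩
            have b : ¬ c l = j := fun b => a ⟨l, b⟩
            simp [sdBlk_apply, b]
        obtain ⟨t, ht⟩ := this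
        rw [ht, map_mul, Subgroup.coe_mul]
        refine mul_mem (Subgroup.mem_iSup_of_mem j ⟨t, rfl⟩) (ih _ (fun i l a => ?_) fun i a => ?_)
        · simp only [a, fc i l a]
        · by_cases b : c i = j
          · exact if_pos b
          · exact (if_neg b).trans (f1 i (by simp [a, b]))
    rintro n ⟨hn, na⟩
    have := ind Finset.univ (e ⟨n, hn⟩) ((hK ⟨n, hn⟩).1 na) fun i a => absurd (Finset.mem_univ _) a
    rwa [MulEquiv.symm_apply_apply] at this
  · by_cases a : ∀ i i', c i = j → c i' = j → e ⟨s, hs⟩ i = e ⟨s, hs⟩ i'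
    · refine .inl fun t => ?_
      rw [hφ, key]
      intro i i' b
      by_cases d : c i = j
      · simp [sdBlk_apply, ← b, d, a i i' d (b ▸ d)]
      · simp [sdBlk_apply, ← b, d]
    · push Not at a
      obtain ⟨i, i', hi, hi', ne⟩ := a
      refine .inr ⟨e ⟨s, hs⟩ i * (e ⟨s, hs⟩ i')⁻¹, fun b => ne (mul_inv_eq_one.1 b), fun t ht => ?_⟩
      rw [hφ, key] at ht
      have := ht i i' (hi.trans hi'.symm)
      simp only [MulEquiv.apply_symm_apply, sdBlk_apply, hi, hi', if_true] at this
      calc _ = e ⟨s, hs⟩ i * ((e ⟨s, hs⟩ i)⁻¹ * t * e ⟨s, hs⟩ i) * (e ⟨s, hs⟩ i')⁻¹ := by group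
        _ = _ := by rw [this]; group

end Cfsg.Agent.DTR
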